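import Mathlib.Algebra.BigOperators.Group.Finset.Basic
import Mathlib.Algebra.BigOperators.Ring.Finset
import Mathlib.Algebra.Order.Ring.Int
import Mathlib.Data.Int.GCD
import Mathlib.Tactic.Ring
import Mathlib.Tactic.Linarith
import Mathlib.Data.Multiset.MapFold
import Mathlib.RingTheory.Coprime.Lemmas
import Mathlib.Tactic.LinearCombination
import Mathlib.Tactic.NormNum
import Cfsg.Agent.H570.Ore.Blk_m3
import Cfsg.Agent.SmallSimple.TheoremBCor
import Cfsg.Agent.SmallSimple.InvolColumn
import Cfsg.Agent.S0235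
import Cfsg.Agent.H692.RealOver
import Cfsg.Agent.FastGrp
import Cfsg.Agent.Prune
set_option linter.all false
open scoped Cfsg.Agent.FastGrp

-- part: H116/LyFive/Num
section
/-!
# The principal 31-block of the Lyons group: the arithmetic (helper116)

`sp`, `ge` : the possible signed degrees of the nonexceptional characters;
`enum_sound` : the multisets of five of them with sum `-43110145`;
`srch_sound` : there are no possible values at the involutions for these.
-/

set_option autoImplicit false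

namespace Cfsg.Agent.H116.LyFive

/-! ### Enumeration of multisets -/

def ieq : ℤ → ℤ → Bool
  | Int.ofNat a, Int.ofNat b => Nat.beq a b
  | Int.negSucc a, Int.negSucc b => Nat.beq a b
  | _, _ => false

theorem ieq_iff {a b : ℤ} : ieq a b = true ↔ a = b := by
  rcases a with a | a <;> rcases b with b | b <;> simp [ieq]

def ileq : List ℤ → List ℤ → Bool
  | [], [] => true
  | a :: as, b :: bs => ieq a b && ileq as bs
  | _, _ => false

theorem eq_of_ileq : ∀ {a b : List ℤ}, ileq a b = true → a = b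
  | [], [], _ => rfl
  | [], _ :: _, h => by simp [ileq] at h
  | _ :: _, [], h => by simp [ileq] at h
  | a :: as, b :: bs, h => by
    rw [ileq, Bool.and_eq_true] at h
    rw [ieq_iff.1 h.1, eq_of_ileq h.2]

/-- All the nonempty suffixes of the list. -/
def allSuf : List ℤ → (ℤ → List ℤ → Bool) → Bool
  | [], _ => true
  | x :: L, f => f x (x :: L) && allSuf L f

theorem allSuf_sound : ∀ {L : List ℤ} {f : ℤ → List ℤ → Bool}, allSuf L f = true → ∀ m : Multiset ℤ, m ≠ 0 →
    (∀ x ∈ m, x ∈ L) → ∃ (x : ℤ) (L' : List ℤ), f x L' = true ∧ x ∈ m ∧ (∀ y ∈ m, y ∈ L') ∧ ∀ y ∈ L', y ∈ L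
  | [], f, _, m, hm, hL => by
    obtain ⟨x, hx⟩ := Multiset.exists_mem_of_ne_zero hm
    exact absurd (hL x hx) (by simp)
  | x :: L, f, h, m, hm, hL => by
    rw [allSuf, Bool.and_eq_true] at h
    by_cases hx : x ∈ m
    · exact ⟨x, x :: L, h.1, hx, hL, fun y hy => hy⟩
    · obtain ⟨y, L', h1, h2, h3, h4⟩ := allSuf_sound h.2 m hm fun y hy => by
        rcases List.mem_cons.1 (hL y hy) with rfl | h'
        · exact absurd hy hx
        · exact h'
      exact ⟨y, L', h1, h2, h3, fun z hz => List.mem_cons_of_mem _ (h4 z hz)⟩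

/-- All the multisets of `n` elements of `L` with sum `T`, together with `acc`, are in `S`. -/
def go2 (S : List (List ℤ)) : ℕ → List ℤ → ℤ → List ℤ → Bool
  | 0, _, T, acc => !(ieq T 0) || S.any (ileq acc)
  | n + 1, L, T, acc =>
    bif Nat.beq n 0 then !(L.any (ieq T)) || S.any (ileq (T :: acc))
    else allSuf L fun x L' => go2 S n L' (T - x) (x :: acc)

theorem go2_sound {S : List (List ℤ)} : ∀ {n : ℕ} {L : List ℤ} {T : ℤ} {acc : List ℤ}, go2 S n L T acc = true →
    ∀ m : Multiset ℤ, Multiset.card m = n → (∀ x ∈ m, x ∈ L) → m.sum = T → ∃ s ∈ S, (s : Multiset ℤ) = m + acc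
  | 0, L, T, acc, h, m, hm, _, hT => by
    obtain rfl := Multiset.card_eq_zero.1 hm
    rw [Multiset.sum_zero] at hT
    subst hT
    have h0 : ieq 0 0 = true := ieq_iff.2 rfl
    rw [go2, h0] at h
    simp only [Bool.not_true, Bool.false_or, List.any_eq_true] at h
    obtain ⟨s, hs, he⟩ := h
    exact ⟨s, hs, by rw [← eq_of_ileq he]; simp⟩
  | n + 1, L, T, acc, h, m, hm, hL, hT => by
    rw [go2] at h
    cases hn : Nat.beq n 0
    · rw [hn, cond_false] at h
      have hm0 : m ≠ 0 := by
        rintro rfl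
        simp at hm
      obtain ⟨x, L', h1, h2, h3, -⟩ := allSuf_sound h m hm0 hL
      obtain ⟨m', rfl⟩ := Multiset.exists_cons_of_mem h2
      obtain ⟨s, hs, he⟩ := go2_sound h1 m' (by simpa using hm) (fun y hy => h3 y (Multiset.mem_cons_of_mem hy))
        (by rw [← hT, Multiset.sum_cons]; ring)
      refine ⟨s, hs, ?_⟩
      rw [he, ← Multiset.cons_coe, Multiset.add_cons, Multiset.cons_add]
    · rw [hn, cond_true] at h
      obtain rfl : n = 0 := Nat.eq_of_beq_eq_true hn
      obtain ⟨x, rfl⟩ := Multiset.card_eq_one.1 (by simpa using hm)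
      have hx : x = T := by rw [← hT]; simp
      subst hx
      have hxL : x ∈ L := hL x (by simp)
      have h1 : L.any (ieq x) = true := List.any_eq_true.2 ⟨x, hxL, ieq_iff.2 rfl⟩
      rw [h1] at h
      simp only [Bool.not_true, Bool.false_or, List.any_eq_true] at h
      obtain ⟨s, hs, he⟩ := h
      refine ⟨s, hs, ?_⟩
      rw [← eq_of_ileq he, ← Multiset.cons_coe, ← Multiset.singleton_add]

/-- First elements of `L`, then elements of `L₂`, all divisible by `c`. -/
def go1 (S : List (List ℤ)) (L₂ : List ℤ) (c : ℕ) : ℕ → List ℤ → ℤ → List ℤ → Bool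
  | 0, _, T, acc => !(ieq T 0) || S.any (ileq acc)
  | n + 1, L, T, acc => (!(ieq (T % c) 0) || go2 S (n + 1) L₂ T acc) &&
      allSuf L fun x L' => go1 S L₂ c n L' (T - x) (x :: acc)

theorem dvd_multiset_sum {c : ℤ} {m : Multiset ℤ} (h : ∀ x ∈ m, c ∣ x) : c ∣ m.sum := Multiset.dvd_sum h

theorem go1_sound {S : List (List ℤ)} {L₂ : List ℤ} {c : ℕ} (hc : ∀ x ∈ L₂, (c : ℤ) ∣ x) :
    ∀ {n : ℕ} {L : List ℤ} {T : ℤ} {acc : List ℤ}, go1 S L₂ c n L T acc = true →
    ∀ m m₂ : Multiset ℤ, Multiset.card m + Multiset.card m₂ = n → (∀ x ∈ m, x ∈ L) → (∀ x ∈ m₂, x ∈ L₂) →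
    m.sum + m₂.sum = T → ∃ s ∈ S, (s : Multiset ℤ) = m + m₂ + acc
  | 0, L, T, acc, h, m, m₂, hm, _, _, hT => by
    obtain rfl : m = 0 := Multiset.card_eq_zero.1 (by omega)
    obtain rfl : m₂ = 0 := Multiset.card_eq_zero.1 (by simpa using hm)
    rw [Multiset.sum_zero, add_zero] at hT
    subst hT
    have h0 : ieq 0 0 = true := ieq_iff.2 rfl
    rw [go1, h0] at h
    simp only [Bool.not_true, Bool.false_or, List.any_eq_true] at h
    obtain ⟨s, hs, he⟩ := h
    exact ⟨s, hs, by rw [← eq_of_ileq he]; simp⟩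
  | n + 1, L, T, acc, h, m, m₂, hm, hL, hL₂, hT => by
    rw [go1, Bool.and_eq_true] at h
    by_cases hm0 : m = 0
    · subst hm0
      rw [Multiset.sum_zero, zero_add] at hT
      rw [Multiset.card_zero, zero_add] at hm
      have h1 : ieq (T % c) 0 = true := by
        rw [ieq_iff, ← hT]
        exact Int.emod_eq_zero_of_dvd (dvd_multiset_sum fun x hx => hc x (hL₂ x hx))
      have h2 := h.1
      rw [h1] at h2
      obtain ⟨s, hs, he⟩ := go2_sound (by simpa using h2) m₂ hm hL₂ hT
      exact ⟨s, hs, by rw [he, zero_add]⟩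
    · obtain ⟨x, L', h1, h2, h3, -⟩ := allSuf_sound h.2 m hm0 hL
      obtain ⟨m', rfl⟩ := Multiset.exists_cons_of_mem h2
      obtain ⟨s, hs, he⟩ := go1_sound hc h1 m' m₂ (by rw [Multiset.card_cons] at hm; omega)
        (fun y hy => h3 y (Multiset.mem_cons_of_mem hy)) hL₂
        (by rw [← hT, Multiset.sum_cons]; ring)
      refine ⟨s, hs, ?_⟩
      rw [he, ← Multiset.cons_coe, Multiset.add_cons, Multiset.cons_add, Multiset.cons_add]

/-- bit of a mask -/
def bt (M r : ℕ) : Bool := Nat.beq (Nat.land (Nat.shiftRight M r) 1) 1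

/-- the residues modulo `4099` of the candidates -/
def mskG : ℕ := 0x1000000000000000000000000000000000000000000000000000000000000002000000000000000000000020000000001000000000000000000100000010000200020000000000000000000000000000000000000000000000000000000000000000000000000000000000000000000000000008000000100000000000000000008000000000000000000000000000000000000000000000800000000000000000000100000000000000400000000000001000010000000004000100000000000000000000000000000000000000100000000000000000000000000000000000000000000000040000000000000000000000040000000000000000000000000000000000000000000000000000000000000000000000000000000800000000000000000000000000000010000000020000001000000000000000000000000000010010000000000000000000100000000000000000000000000000000000000800000000000000000040800000000000000000000000000000000000100000000000000000000001000000000000000000000000000000000020000000000000000000000000000100000000020000002000001000000080000000000000000000080000000000200000000000000000000000000000000000000000000000000000000081000000000200000000000000000000002000000000000000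

/-- `allSuf` on pairs -/
noncomputable def sufP (L : List (ℤ × ℕ)) (F : ℤ × ℕ → List (ℤ × ℕ) → Bool) : Bool :=
  List.rec true (fun p L' ih => Bool.rec false ih (F p (p :: L'))) L

theorem allSuf_of {P : ℤ × ℕ → Prop} {F : ℤ × ℕ → List (ℤ × ℕ) → Bool} {f : ℤ → List ℤ → Bool}
    (hF : ∀ p L, P p → (∀ q ∈ L, P q) → F p L = true → f p.1 (L.map Prod.fst) = true) :
    ∀ L : List (ℤ × ℕ), (∀ q ∈ L, P q) → sufP L F = true → allSuf (L.map Prod.fst) f = true := by
  intro L
  induction L with
  | nil => intro _ _; rfl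
  | cons p L ih =>
    intro hL h
    have h1 : (Bool.rec false (sufP L F) (F p (p :: L)) : Bool) = true := h
    show (f p.1 ((p :: L).map Prod.fst) && allSuf (L.map Prod.fst) f) = true
    cases h2 : F p (p :: L)
    · rw [h2] at h1; exact Bool.noConfusion h1
    · rw [h2] at h1
      rw [hF p _ (hL p List.mem_cons_self) hL h2, ih (fun q hq => hL q (List.mem_cons_of_mem _ hq)) h1]
      rfl

/-- `go2` with residues -/
noncomputable def fgo2 (S : List (List ℤ)) (n : ℕ) : List (ℤ × ℕ) → ℕ → ℤ → List ℤ → Bool :=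
  Nat.rec (fun L r T acc => Bool.rec true (go2 S 1 (L.map Prod.fst) T acc) (bt mskG (Nat.mod r 4099)))
    (fun _ ih L r T acc => sufP L fun p L' => ih L' (Nat.add r p.2) (T - p.1) (p.1 :: acc)) n

/-- `go1` with residues -/
noncomputable def fgo1 (S : List (List ℤ)) (L₂ : List (ℤ × ℕ)) (n : ℕ) : List (ℤ × ℕ) → ℕ → ℤ → List ℤ → Bool :=
  Nat.rec (fun _ r T acc => Bool.rec true (go2 S 0 [] T acc) (Nat.beq (Nat.mod r 2479) 0))
    (fun n ih L r T acc => Bool.rec false (sufP L fun p L' => ih L' (Nat.add r p.2) (T - p.1) (p.1 :: acc))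
      (Bool.rec true (fgo2 S n L₂ r T acc) (Nat.beq (Nat.mod r 2479) 0))) n

theorem go2_of {S : List (List ℤ)} (n : ℕ) : ∀ (L : List (ℤ × ℕ)) (r : ℕ) (T : ℤ) (acc : List ℤ),
    (∀ q ∈ L, (10161421 : ℤ) ∣ q.1 + q.2 ∧ bt mskG (q.1 % 4099).toNat = true) → (10161421 : ℤ) ∣ T - r →
      fgo2 S n L r T acc = true → go2 S (n + 1) (L.map Prod.fst) T acc = true := by
  induction n with
  | zero =>
    intro L r T acc hL hT h
    have h1 : (Bool.rec true (go2 S 1 (L.map Prod.fst) T acc) (bt mskG (r % 4099)) : Bool) = true := h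
    cases h2 : bt mskG (r % 4099)
    · show (!((L.map Prod.fst).any (ieq T)) || S.any (ileq (T :: acc))) = true
      cases h3 : (L.map Prod.fst).any (ieq T)
      · rfl
      · obtain ⟨x, hx, h4⟩ := List.any_eq_true.1 h3
        obtain ⟨q, hq, rfl⟩ := List.mem_map.1 hx
        have h5 := (hL q hq).2
        rw [← ieq_iff.1 h4, show (T % 4099).toNat = r % 4099 by omega, h2] at h5
        exact Bool.noConfusion h5
    · rw [h2] at h1; exact h1
  | succ n ih =>
    intro L r T acc hL hT h
    show allSuf (L.map Prod.fst) (fun x L' => go2 S (n + 1) L' (T - x) (x :: acc)) = true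
    refine allSuf_of (fun p L' hp hL' h' => ih L' (r + p.2) _ _ hL' ?_ h') L hL h
    have := hp.1
    push_cast
    omega

theorem go1_of {S : List (List ℤ)} {L₂ : List (ℤ × ℕ)}
    (h₂ : ∀ q ∈ L₂, (10161421 : ℤ) ∣ q.1 + q.2 ∧ bt mskG (q.1 % 4099).toNat = true) (n : ℕ) :
    ∀ (L : List (ℤ × ℕ)) (r : ℕ) (T : ℤ) (acc : List ℤ), (∀ q ∈ L, (10161421 : ℤ) ∣ q.1 + q.2) → (10161421 : ℤ) ∣ T - r →
      fgo1 S L₂ n L r T acc = true → go1 S (L₂.map Prod.fst) 2479 n (L.map Prod.fst) T acc = true := by
  have key : ∀ (r : ℕ) (T : ℤ), (10161421 : ℤ) ∣ T - r → Nat.beq (r % 2479) 0 = false →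
      ieq T 0 = false ∧ ieq (T % ((2479 : ℕ) : ℤ)) 0 = false := by
    intro r T hT h
    have h1 : r % 2479 ≠ 0 := Nat.ne_of_beq_eq_false h
    constructor
    · rw [Bool.eq_false_iff]
      intro h2
      have := ieq_iff.1 h2
      omega
    · rw [Bool.eq_false_iff]
      intro h2
      have := ieq_iff.1 h2
      omega
  induction n with
  | zero =>
    intro L r T acc hL hT h
    have h1 : (Bool.rec true (go2 S 0 [] T acc) (Nat.beq (r % 2479) 0) : Bool) = true := h
    show (!(ieq T 0) || S.any (ileq acc)) = true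
    cases h2 : Nat.beq (r % 2479) 0
    · rw [(key r T hT h2).1]; rfl
    · rw [h2] at h1; exact h1
  | succ n ih =>
    intro L r T acc hL hT h
    have h1 : (Bool.rec false (sufP L fun p L' => fgo1 S L₂ n L' (r + p.2) (T - p.1) (p.1 :: acc))
      (Bool.rec true (fgo2 S n L₂ r T acc) (Nat.beq (r % 2479) 0)) : Bool) = true := h
    show ((!(ieq (T % ((2479 : ℕ) : ℤ)) 0) || go2 S (n + 1) (L₂.map Prod.fst) T acc) &&
      allSuf (L.map Prod.fst) fun x L' => go1 S (L₂.map Prod.fst) 2479 n L' (T - x) (x :: acc)) = true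
    cases h3 : (Bool.rec true (fgo2 S n L₂ r T acc) (Nat.beq (r % 2479) 0) : Bool)
    · rw [h3] at h1; exact Bool.noConfusion h1
    · rw [h3] at h1
      rw [Bool.and_eq_true]
      constructor
      · cases h2 : Nat.beq (r % 2479) 0
        · rw [(key r T hT h2).2]; rfl
        · rw [h2] at h3
          rw [go2_of n L₂ r T acc h₂ hT h3, Bool.or_true]
      · refine allSuf_of (fun p L' hp hL' h' => ih L' (r + p.2) _ _ hL' ?_ h') L hL h1
        push_cast
        omega

theorem go_of {S : List (List ℤ)} {L L₂ : List ℤ} (P P₂ : List (ℤ × ℕ)) (e : P.map Prod.fst = L) (e₂ : P₂.map Prod.fst = L₂)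
    (h₁ : (P.all fun q => ieq ((q.1 + q.2) % 10161421) 0) = true)
    (h₂ : (P₂.all fun q => ieq ((q.1 + q.2) % 10161421) 0 && bt mskG (q.1 % 4099).toNat) = true)
    (h : fgo1 S P₂ 5 P 7696960 (-43110145) [] = true) : go1 S L₂ 2479 5 L (-43110145) [] = true := by
  subst e e₂
  refine go1_of (fun q hq => ?_) 5 P _ _ _ (fun q hq => ?_) (by decide +kernel) h
  · have h3 := List.all_eq_true.1 h₂ q hq
    rw [Bool.and_eq_true] at h3
    exact ⟨Int.dvd_of_emod_eq_zero (ieq_iff.1 h3.1), h3.2⟩
  · exact Int.dvd_of_emod_eq_zero (ieq_iff.1 (List.all_eq_true.1 h₁ q hq))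

/-- The candidates not divisible by `2479 = 37 * 67`. -/
def sp : List ℤ := [-117920000, -5128515, -586116, -417879, -25326, 105525, 120064, 2517480, 3561250, 11188800,
  24312960, 24873750, 70804125]

/-- The candidates divisible by `2479`. -/
def ge : List ℤ := [-163614000, -140559300, -115660224, -86765000, -82461456, -71395200, -59637303, -36813150, -22211840, -19522125,
  -16063920, -11452980, -9916000, -4997664, -3614382, -2231100, -1308912, -694120, -309875, -156177, -79328,
  -2479, 74370, 381766, 535464, 1227105, 2379840, 4685310, 5453800, 8835156, 9296250, 12216512, 15059925,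
  17134848, 20823600, 33734232, 39267360, 47720750, 66933000, 77307615, 108431460, 149929920, 153388125, 174521600]

/-- The solutions. -/
def sols : List (List ℤ) := [[153388125, 39267360, 74370, -117920000, -117920000],
  [77307615, 8835156, -11452980, 120064, -117920000],
  [77307615, 2379840, -4997664, 120064, -117920000],
  [77307615, -1308912, -1308912, 120064, -117920000],
  [39267360, 4685310, -86765000, 120064, -417879],
  [39267360, 381766, -82461456, 120064, -417879],
  [17134848, -309875, -59637303, 120064, -417879],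
  [5453800, -11452980, -36813150, 120064, -417879],
  [77307615, -4997664, -115660224, 120064, 120064],
  [39267360, -156177, -82461456, 120064, 120064],
  [15059925, 1227105, -59637303, 120064, 120064]]

theorem ge_dvd : ∀ x ∈ ge, ((2479 : ℕ) : ℤ) ∣ x := by decide +kernel

theorem go_check : go1 sols ge 2479 5 sp (-43110145) [] = true :=
  go_of [(-117920000, 6144369), (-5128515, 5128515), (-586116, 586116), (-417879, 417879), (-25326, 25326), (105525, 10055896),
    (120064, 10041357), (2517480, 7643941), (3561250, 6600171), (11188800, 9134042), (24312960, 6171303), (24873750,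
    5610513), (70804125, 325822)]
    [(-163614000, 1031264), (-140559300, 8460827), (-115660224, 3884593), (-86765000, 5473632), (-82461456, 1170088),
    (-71395200, 265253), (-59637303, 8830198), (-36813150, 6328887), (-22211840, 1888998), (-19522125, 9360704), (-16063920,
    5902499), (-11452980, 1291559), (-9916000, 9916000), (-4997664, 4997664), (-3614382, 3614382), (-2231100, 2231100),
    (-1308912, 1308912), (-694120, 694120), (-309875, 309875), (-156177, 156177), (-79328, 79328), (-2479, 2479), (74370,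
    10087051), (381766, 9779655), (535464, 9625957), (1227105, 8934316), (2379840, 7781581), (4685310, 5476111), (5453800,
    4707621), (8835156, 1326265), (9296250, 865171), (12216512, 8106330), (15059925, 5262917), (17134848, 3187994),
    (20823600, 9660663), (33734232, 6911452), (39267360, 1378324), (47720750, 3086355), (66933000, 4196947), (77307615,
    3983753), (108431460, 3344171), (149929920, 2491395), (153388125, 9194611), (174521600, 8383978)]
    rfl rfl (by decide +kernel) (by decide +kernel) (by decide +kernel)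

/-- **The enumeration.** -/
theorem enum_sound (m : Multiset ℤ) (hm : Multiset.card m = 5) (hL : ∀ x ∈ m, x ∈ sp ∨ x ∈ ge)
    (hT : m.sum = -43110145) : ∃ s ∈ sols, (s : Multiset ℤ) = m := by
  classical
  obtain ⟨s, hs, he⟩ := go1_sound ge_dvd go_check (m.filter (· ∈ sp)) (m.filter (¬ · ∈ sp))
    (by rw [← Multiset.card_add, Multiset.filter_add_not, hm])
    (fun x hx => (Multiset.mem_filter.1 hx).2)
    (fun x hx => by
      obtain ⟨h1, h2⟩ := Multiset.mem_filter.1 hx
      exact (hL x h1).resolve_left h2)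
    (by rw [← Multiset.sum_add, Multiset.filter_add_not, hT])
  exact ⟨s, hs, by rw [he, Multiset.filter_add_not]; simp⟩

end Cfsg.Agent.H116.LyFive
end

-- part: H116/LyFive/Srch
section
/-!
# The principal 31-block of the Lyons group: the values at an involution (helper116)

`i` runs over five characters with signed degrees `D i`, `b i` is the value at the involution and
`c i = b i * |K| / |D i|` is the value of the central character. The search shows that
`1 + ∑ ε b = 0`, `|K| + ∑ ε b c = 31 * |C(t)|` has no solution for the eleven lists of degrees.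
-/

set_option autoImplicit false

namespace Cfsg.Agent.H116.LyFive

/-- number of the involutions -/
def KK : ℕ := 1296826875

/-- order of the centralizer of an involution -/
def CT : ℕ := 39916800

/-- the sign -/
def sg : ℤ → ℤ
  | Int.ofNat _ => 1
  | Int.negSucc _ => -1

theorem sg_sq (D : ℤ) : sg D * sg D = 1 := by
  rcases D with a | a <;> rfl

/-- A variable: sign, divisor of `b`, coefficient of `k ^ 2`, bound of `k`, common divisor of the `q`s from here. -/
structure Var where
  e : ℤ
  q : ℕ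
  w : ℕ
  B : ℕ
  g : ℕ

def headG : List Var → ℕ
  | [] => 0
  | v :: _ => v.g

/-- The variable of a signed degree. -/
def mkVar (D : ℤ) (g' : ℕ) : Var :=
  let a := D.natAbs
  let g₀ := Nat.gcd a KK
  let q := a / g₀
  let B := bif Nat.beq (a % 256) 0 then 0 else 6318 / q
  { e := sg D, q := q, w := q * (KK / g₀), B := B, g := bif Nat.beq B 0 then g' else Nat.gcd q g' }

def mkVars : List ℤ → List Var
  | [] => []
  | D :: l => mkVar D (headG (mkVars l)) :: mkVars l

theorem var_spec {D b c : ℤ} (hD : D ≠ 0) (h : (D.natAbs : ℤ) * c = b * KK) (hb : b * b ≤ CT)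
    (h256 : 256 ∣ D.natAbs → b = 0) (g' : ℕ) : ∃ k : ℤ, b = (mkVar D g').q * k ∧ b * c = (mkVar D g').w * (k * k) ∧
      k.natAbs ≤ (mkVar D g').B := by
  set a := D.natAbs with ha
  have ha0 : 0 < a := Int.natAbs_pos.2 hD
  set g₀ := Nat.gcd a KK with hg₀
  have hg0 : 0 < g₀ := Nat.gcd_pos_of_pos_left _ ha0
  obtain ⟨q, hq⟩ : g₀ ∣ a := Nat.gcd_dvd_left _ _
  obtain ⟨r, hr⟩ : g₀ ∣ KK := Nat.gcd_dvd_right _ _
  have hq' : a / g₀ = q := by rw [hq]; exact Nat.mul_div_cancel_left _ hg0
  have hr' : KK / g₀ = r := by rw [hr]; exact Nat.mul_div_cancel_left _ hg0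
  have hcop : Nat.Coprime q r := by
    have h1 := Nat.coprime_div_gcd_div_gcd (m := a) (n := KK) hg0
    rwa [← hg₀, hq', hr'] at h1
  have hq0 : 0 < q := by
    rcases Nat.eq_zero_or_pos q with h1 | h1
    · rw [h1, mul_zero] at hq; omega
    · exact h1
  have hgz : (g₀ : ℤ) ≠ 0 := by exact_mod_cast hg0.ne'
  have hqz : (q : ℤ) ≠ 0 := by exact_mod_cast hq0.ne'
  have h1 : (q : ℤ) * c = b * r := by
    apply mul_left_cancel₀ hgz
    have e1 : (a : ℤ) = g₀ * q := by exact_mod_cast hq
    have e2 : (KK : ℤ) = g₀ * r := by exact_mod_cast hr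
    rw [e1, e2] at h
    linear_combination h
  have h2 : (q : ℤ) ∣ b := by
    have h3 : (q : ℤ) ∣ b * r := ⟨c, h1.symm⟩
    exact (Nat.isCoprime_iff_coprime.2 hcop).dvd_of_dvd_mul_right h3
  obtain ⟨k, hk⟩ := h2
  have hc : c = k * r := by
    apply mul_left_cancel₀ hqz
    rw [h1, hk]; ring
  have eq1 : (mkVar D g').q = q := hq'
  have eq2 : (mkVar D g').w = q * r := by
    show a / g₀ * (KK / g₀) = q * r
    rw [hq', hr']
  refine ⟨k, by rw [eq1, hk], by rw [eq2, hc, hk]; push_cast; ring, ?_⟩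
  show k.natAbs ≤ bif Nat.beq (a % 256) 0 then 0 else 6318 / (a / g₀)
  cases h3 : Nat.beq (a % 256) 0
  · rw [cond_false, hq', Nat.le_div_iff_mul_le hq0]
    have h4 : b.natAbs * b.natAbs ≤ CT := by
      have : ((b.natAbs * b.natAbs : ℕ) : ℤ) = b * b := Int.natAbs_mul_self
      have h5 : ((b.natAbs * b.natAbs : ℕ) : ℤ) ≤ (CT : ℤ) := by rw [this]; exact hb
      exact_mod_cast h5
    have h5 : b.natAbs = q * k.natAbs := by rw [hk, Int.natAbs_mul, Int.natAbs_natCast]
    have h6 : b.natAbs ≤ 6318 := by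
      by_contra h7
      push Not at h7
      have h8 : 6319 * 6319 ≤ b.natAbs * b.natAbs := Nat.mul_le_mul h7 h7
      have h9 : CT < 6319 * 6319 := by decide
      omega
    rw [mul_comm, ← h5]
    exact h6
  · rw [cond_true]
    have h4 := h256 (Nat.dvd_of_mod_eq_zero (Nat.eq_of_beq_eq_true h3))
    rw [h4] at hk
    have h5 : k = 0 := by
      rcases mul_eq_zero.1 hk.symm with h6 | h6
      · exact absurd h6 hqz
      · exact h6
    rw [h5]
    rfl

/-- All the integers of absolute value at most the bound. -/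
def allK : ℕ → (ℤ → Bool) → Bool
  | 0, f => f 0
  | k + 1, f => f (Int.ofNat (k + 1)) && f (Int.negSucc k) && allK k f

theorem allK_sound : ∀ {B : ℕ} {f : ℤ → Bool}, allK B f = true → ∀ k : ℤ, k.natAbs ≤ B → f k = true
  | 0, f, h, k, hk => by
    obtain rfl : k = 0 := by omega
    exact h
  | B + 1, f, h, k, hk => by
    rw [allK, Bool.and_eq_true, Bool.and_eq_true] at h
    by_cases h1 : k.natAbs ≤ B
    · exact allK_sound h.2 k h1
    · have h2 : k.natAbs = B + 1 := by omega
      rcases k with a | a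
      · have : a = B + 1 := h2
        subst this
        exact h.1.1
      · have : a = B := by simpa using h2
        subst this
        exact h.1.2

/-- The search. -/
def srch : List Var → ℤ → ℤ → Bool
  | [], L, Q => !(ieq L 0) || !(ieq Q 0)
  | [v], L, Q => !(ieq (L % v.g) 0) || !(ieq (v.e * (v.w * ((v.e * L / v.q) * (v.e * L / v.q)))) Q)
  | v :: u :: vs, L, Q => !(ieq (L % v.g) 0) || allK v.B fun k => srch (u :: vs) (L - v.e * (v.q * k)) (Q - v.e * (v.w * (k * k)))

section sound

variable {ι : Type*} {D b c : ι → ℤ}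

/-- The hypotheses. -/
structure Hyp (D b c : ι → ℤ) (S : Finset ι) : Prop where
  ne : ∀ i ∈ S, D i ≠ 0
  eq : ∀ i ∈ S, ((D i).natAbs : ℤ) * c i = b i * KK
  le : ∀ i ∈ S, b i * b i ≤ CT
  dz : ∀ i ∈ S, 256 ∣ (D i).natAbs → b i = 0

theorem exists_split [DecidableEq ι] {D₀ : ℤ} {l : List ℤ} {S : Finset ι} (h : S.val.map D = ((D₀ :: l : List ℤ) : Multiset ℤ)) :
    ∃ i ∈ S, D i = D₀ ∧ (S.erase i).val.map D = (l : Multiset ℤ) := by
  have h1 : D₀ ∈ S.val.map D := by rw [h]; simp
  obtain ⟨i, hi, hD⟩ := Multiset.mem_map.1 h1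
  refine ⟨i, hi, hD, ?_⟩
  rw [Finset.erase_val, Multiset.map_erase_of_mem _ _ hi, h, hD, ← Multiset.cons_coe, Multiset.erase_cons_head]

theorem Hyp.mono {S T : Finset ι} (h : Hyp D b c S) (hT : T ⊆ S) : Hyp D b c T :=
  ⟨fun i hi => h.ne i (hT hi), fun i hi => h.eq i (hT hi), fun i hi => h.le i (hT hi), fun i hi => h.dz i (hT hi)⟩

theorem headG_dvd [DecidableEq ι] : ∀ {l : List ℤ} {S : Finset ι}, S.val.map D = (l : Multiset ℤ) → Hyp D b c S →
    (headG (mkVars l) : ℤ) ∣ ∑ i ∈ S, sg (D i) * b i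
  | [], S, h, _ => by
    have : S = ∅ := by
      rw [← Finset.val_eq_zero]
      exact Multiset.map_eq_zero.1 h
    rw [this]
    simp [mkVars, headG]
  | D₀ :: l, S, h, hS => by
    obtain ⟨i, hi, hD, h'⟩ := exists_split h
    have ih := headG_dvd h' (hS.mono (Finset.erase_subset i S))
    obtain ⟨k, hk1, -, hk3⟩ := var_spec (hS.ne i hi) (hS.eq i hi) (hS.le i hi) (hS.dz i hi) (headG (mkVars l))
    rw [← Finset.add_sum_erase S _ hi]
    rw [hD] at hk1 hk3
    show (((mkVar D₀ (headG (mkVars l))).g : ℕ) : ℤ) ∣ _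
    set v := mkVar D₀ (headG (mkVars l)) with hv
    have hg : v.g = bif Nat.beq v.B 0 then headG (mkVars l) else Nat.gcd v.q (headG (mkVars l)) := rfl
    rw [hg]
    cases hB : Nat.beq v.B 0
    · rw [cond_false]
      refine dvd_add (Dvd.dvd.mul_left ?_ _) ((Int.natCast_dvd_natCast.2 (Nat.gcd_dvd_right _ _)).trans ih)
      rw [hk1]
      exact (Int.natCast_dvd_natCast.2 (Nat.gcd_dvd_left _ _)).trans (dvd_mul_right _ _)
    · rw [cond_true]
      have h0 : v.B = 0 := Nat.eq_of_beq_eq_true hB
      have hk : k = 0 := by rw [h0] at hk3; omega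
      rw [hk1, hk, mul_zero, mul_zero, zero_add]
      exact ih

theorem srch_sound [DecidableEq ι] : ∀ {l : List ℤ} {S : Finset ι} {L Q : ℤ}, S.val.map D = (l : Multiset ℤ) →
    Hyp D b c S → srch (mkVars l) L Q = true → ∑ i ∈ S, sg (D i) * b i = L → ∑ i ∈ S, sg (D i) * (b i * c i) = Q → False
  | [], S, L, Q, h, _, hs, hL, hQ => by
    have : S = ∅ := by
      rw [← Finset.val_eq_zero]
      exact Multiset.map_eq_zero.1 h
    subst this
    rw [Finset.sum_empty] at hL hQ
    subst hL hQ
    revert hs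
    decide
  | [D₀], S, L, Q, h, hS, hs, hL, hQ => by
    have hg := headG_dvd h hS
    rw [hL] at hg
    obtain ⟨i, hi, hD, h'⟩ := exists_split h
    obtain ⟨k, hk1, hk2, -⟩ := var_spec (hS.ne i hi) (hS.eq i hi) (hS.le i hi) (hS.dz i hi) (headG (mkVars []))
    have hSe : S.erase i = ∅ := by
      rw [← Finset.val_eq_zero]
      exact Multiset.map_eq_zero.1 h'
    rw [← Finset.add_sum_erase S _ hi, hSe, Finset.sum_empty, add_zero] at hL hQ
    rw [hD] at hk1 hk2 hL hQ
    have hq0 : ((mkVar D₀ (headG (mkVars []))).q : ℤ) ≠ 0 := by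
      have hD0 : D₀ ≠ 0 := hD ▸ hS.ne i hi
      have ha0 : 0 < D₀.natAbs := Int.natAbs_pos.2 hD0
      have h1 : 0 < D₀.natAbs / Nat.gcd D₀.natAbs KK :=
        Nat.div_pos (Nat.gcd_le_left _ ha0) (Nat.gcd_pos_of_pos_left _ ha0)
      exact_mod_cast h1.ne'
    simp only [mkVars, srch, Bool.or_eq_true, Bool.not_eq_true'] at hs
    set v := mkVar D₀ (headG []) with hv
    have he : v.e = sg D₀ := rfl
    rcases hs with hs | hs
    · have h1 : ieq (L % (v.g : ℤ)) 0 = true := ieq_iff.2 (Int.emod_eq_zero_of_dvd hg)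
      rw [h1] at hs
      exact Bool.noConfusion hs
    · have h1 : v.e * L / (v.q : ℤ) = k := by
        rw [← hL, hk1, he, ← mul_assoc, sg_sq, one_mul]
        exact Int.mul_ediv_cancel_left _ hq0
      rw [h1, he] at hs
      have h2 : ieq (sg D₀ * (v.w * (k * k))) Q = true := by
        rw [ieq_iff, ← hQ, hk2]
        rfl
      rw [h2] at hs
      exact Bool.noConfusion hs
  | D₀ :: D₁ :: l, S, L, Q, h, hS, hs, hL, hQ => by
    have hg := headG_dvd h hS
    rw [hL] at hg
    obtain ⟨i, hi, hD, h'⟩ := exists_split h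
    obtain ⟨k, hk1, hk2, hk3⟩ := var_spec (hS.ne i hi) (hS.eq i hi) (hS.le i hi) (hS.dz i hi) (headG (mkVars (D₁ :: l)))
    rw [← Finset.add_sum_erase S _ hi] at hL hQ
    rw [hD] at hk1 hk2 hk3 hL hQ
    have hs' : (!(ieq (L % (mkVar D₀ (headG (mkVars (D₁ :: l)))).g) 0) ||
        allK (mkVar D₀ (headG (mkVars (D₁ :: l)))).B fun k => srch (mkVars (D₁ :: l))
          (L - (mkVar D₀ (headG (mkVars (D₁ :: l)))).e * ((mkVar D₀ (headG (mkVars (D₁ :: l)))).q * k))
          (Q - (mkVar D₀ (headG (mkVars (D₁ :: l)))).e * ((mkVar D₀ (headG (mkVars (D₁ :: l)))).w * (k * k)))) = true := hs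
    have he : (mkVar D₀ (headG (mkVars (D₁ :: l)))).e = sg D₀ := rfl
    have h1 : ieq (L % ((mkVar D₀ (headG (mkVars (D₁ :: l)))).g : ℤ)) 0 = true := ieq_iff.2 (Int.emod_eq_zero_of_dvd hg)
    rw [h1, Bool.not_true, Bool.false_or] at hs'
    have h2 := allK_sound hs' k hk3
    refine srch_sound h' (hS.mono (Finset.erase_subset i S)) h2 ?_ ?_
    · rw [he, ← hk1]; linear_combination hL
    · rw [he, ← hk2]; linear_combination hQ

end sound

theorem allK_mono {f g : ℤ → Bool} (h : ∀ k, f k = true → g k = true) : ∀ B : ℕ, allK B f = true → allK B g = true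
  | 0, h1 => h 0 h1
  | B + 1, h1 => by
    rw [allK, Bool.and_eq_true, Bool.and_eq_true] at h1 ⊢
    exact ⟨⟨h _ h1.1.1, h _ h1.1.2⟩, allK_mono h B h1.2⟩

theorem allK_true : ∀ B : ℕ, allK B (fun _ => true) = true
  | 0 => rfl
  | B + 1 => allK_true B

/-- moduli with the masks of the squares -/
def sqM : List (ℕ × ℕ) := [(64, 0x202021202030213), (63, 0x402483012450293), (65, 0x1218a019866014613), (11, 0x23b), (17, 0x1a317), (19, 0x30af3), (23, 0x5335f), (29, 0x13d122f3), (43, 0x35883a3ee53), (47, 0x4351b2753df), (53, 0x12dd703303aed3), (59, 0x22b62183e7b92bb)]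

theorem sqM_ok : (sqM.all fun q => Nat.blt 0 q.1 &&
    (List.range q.1).all fun a => Nat.beq (Nat.land (Nat.shiftRight q.2 (a * a % q.1)) 1) 1) = true := by decide +kernel

/-- not a square -/
def nsq : ℤ → Bool
  | Int.ofNat n => sqM.any fun q => Nat.beq (Nat.land (Nat.shiftRight q.2 (Nat.mod n q.1)) 1) 0
  | Int.negSucc _ => true

theorem nsq_sq (s : ℤ) : nsq (s * s) = false := by
  rw [← Int.natAbs_mul_self]
  show (sqM.any fun q => Nat.beq (Nat.land (Nat.shiftRight q.2 (s.natAbs * s.natAbs % q.1)) 1) 0) = false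
  rw [List.any_eq_false]
  intro q hq h
  have h1 := List.all_eq_true.1 sqM_ok q hq
  rw [Bool.and_eq_true, Nat.blt_eq] at h1
  have h2 := List.all_eq_true.1 h1.2 (s.natAbs % q.1) (List.mem_range.2 (Nat.mod_lt _ h1.1))
  rw [← Nat.mul_mod, Nat.eq_of_beq_eq_true h] at h2
  exact Bool.noConfusion h2

/-- the discriminant for the last two variables -/
def disc (u v : Var) (L Q : ℤ) : ℤ :=
  (v.e * v.w * L * (u.e * u.q)) * (v.e * v.w * L * (u.e * u.q)) -
    (v.e * v.w * ((u.e * u.q) * (u.e * u.q)) + v.q * v.q * (u.e * u.w)) * (v.e * v.w * (L * L) - v.q * v.q * Q)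

theorem last2 {u v : Var} {L Q : ℤ} (hg : v.g = v.q) (he : v.e * v.e = 1) (h : nsq (disc u v L Q) = true) (k : ℤ) :
    srch [v] (L - u.e * (u.q * k)) (Q - u.e * (u.w * (k * k))) = true := by
  generalize hL : L - u.e * (u.q * k) = L'
  generalize hQ : Q - u.e * (u.w * (k * k)) = Q'
  show (!(ieq (L' % v.g) 0) || !(ieq (v.e * (v.w * ((v.e * L' / v.q) * (v.e * L' / v.q)))) Q')) = true
  cases h1 : ieq (L' % v.g) 0
  · rfl
  cases h2 : ieq (v.e * (v.w * ((v.e * L' / v.q) * (v.e * L' / v.q)))) Q'
  · rfl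
  exfalso
  rw [hg] at h1
  obtain ⟨m, hm⟩ := Int.dvd_of_emod_eq_zero (ieq_iff.1 h1)
  have h3 := ieq_iff.1 h2
  have h4 : v.e * v.w * (L' * L') = v.q * v.q * Q' := by
    by_cases hq : (v.q : ℤ) = 0
    · rw [hm, hq]; ring
    · rw [hm, mul_left_comm v.e v.q m, Int.mul_ediv_cancel_left _ hq] at h3
      rw [hm, ← h3]
      linear_combination (-(v.e * v.w * v.q * v.q * m * m)) * he
  have h5 : disc u v L Q = ((v.e * v.w * ((u.e * u.q) * (u.e * u.q)) + v.q * v.q * (u.e * u.w)) * k - v.e * v.w * L * (u.e * u.q)) *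
      ((v.e * v.w * ((u.e * u.q) * (u.e * u.q)) + v.q * v.q * (u.e * u.w)) * k - v.e * v.w * L * (u.e * u.q)) := by
    rw [← hL, ← hQ] at h4
    unfold disc
    linear_combination (-(v.e * v.w * ((u.e * u.q) * (u.e * u.q)) + v.q * v.q * (u.e * u.w))) * h4
  rw [h5, nsq_sq] at h
  exact Bool.noConfusion h

/-- The search, with the discriminant for the last two variables. -/
def fsrch : List Var → ℤ → ℤ → Bool
  | [], L, Q => srch [] L Q
  | [v], L, Q => srch [v] L Q
  | [u, v], L, Q => !(ieq (L % u.g) 0) || (Nat.beq v.g v.q && ieq (v.e * v.e) 1 && nsq (disc u v L Q)) || srch [u, v] L Q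
  | v :: u :: w :: vs, L, Q => !(ieq (L % v.g) 0) ||
      allK v.B fun k => fsrch (u :: w :: vs) (L - v.e * (v.q * k)) (Q - v.e * (v.w * (k * k)))

theorem srch_of : ∀ {l : List Var} {L Q : ℤ}, fsrch l L Q = true → srch l L Q = true
  | [], _, _, h => h
  | [_], _, _, h => h
  | [u, v], L, Q, h => by
    rw [fsrch, Bool.or_eq_true, Bool.or_eq_true, Bool.and_eq_true, Bool.and_eq_true] at h
    rcases h with (h | h) | h
    · rw [srch, h, Bool.true_or]
    · rw [srch, allK_mono (fun k _ => last2 (Nat.eq_of_beq_eq_true h.1.1) (ieq_iff.1 h.1.2) h.2 k) _ (allK_true _),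
        Bool.or_true]
    · exact h
  | v :: u :: w :: vs, L, Q, h => by
    rw [fsrch, Bool.or_eq_true] at h
    rw [srch, Bool.or_eq_true]
    exact h.imp id (allK_mono (fun k h => srch_of h) _)

/-- The order of the variables for the search. -/
def srt (l : List ℤ) : List ℤ := l.insertionSort fun x y => (mkVar x 0).B ≤ (mkVar y 0).B

theorem search_0 : srch (mkVars (srt [153388125, 39267360, 74370, -117920000, -117920000])) (-1) (31 * CT - KK) = true :=
  srch_of (by decide +kernel)

theorem search_1 : srch (mkVars (srt [77307615, 8835156, -11452980, 120064, -117920000])) (-1) (31 * CT - KK) = true :=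
  srch_of (by decide +kernel)

theorem search_2 : srch (mkVars (srt [77307615, 2379840, -4997664, 120064, -117920000])) (-1) (31 * CT - KK) = true :=
  srch_of (by decide +kernel)

theorem search_3 : srch (mkVars (srt [77307615, -1308912, -1308912, 120064, -117920000])) (-1) (31 * CT - KK) = true :=
  srch_of (by decide +kernel)

theorem search_4 : srch (mkVars (srt [39267360, 4685310, -86765000, 120064, -417879])) (-1) (31 * CT - KK) = true :=
  srch_of (by decide +kernel)

theorem search_5 : srch (mkVars (srt [39267360, 381766, -82461456, 120064, -417879])) (-1) (31 * CT - KK) = true :=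
  srch_of (by decide +kernel)

theorem search_6 : srch (mkVars (srt [17134848, -309875, -59637303, 120064, -417879])) (-1) (31 * CT - KK) = true :=
  srch_of (by decide +kernel)

theorem search_7 : srch (mkVars (srt [5453800, -11452980, -36813150, 120064, -417879])) (-1) (31 * CT - KK) = true :=
  srch_of (by decide +kernel)

theorem search_8 : srch (mkVars (srt [77307615, -4997664, -115660224, 120064, 120064])) (-1) (31 * CT - KK) = true :=
  srch_of (by decide +kernel)

theorem search_9 : srch (mkVars (srt [39267360, -156177, -82461456, 120064, 120064])) (-1) (31 * CT - KK) = true :=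
  srch_of (by decide +kernel)

theorem search_10 : srch (mkVars (srt [15059925, 1227105, -59637303, 120064, 120064])) (-1) (31 * CT - KK) = true :=
  srch_of (by decide +kernel)

theorem search_check : (sols.all fun l => srch (mkVars (srt l)) (-1) (31 * CT - KK)) = true := by
  rw [List.all_eq_true]
  intro l hl
  simp only [sols, List.mem_cons, List.not_mem_nil, or_false] at hl
  rcases hl with rfl | rfl | rfl | rfl | rfl | rfl | rfl | rfl | rfl | rfl | rfl
  exacts [search_0, search_1, search_2, search_3, search_4, search_5, search_6, search_7, search_8, search_9, search_10]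

end Cfsg.Agent.H116.LyFive
end

-- part: H116/LyFive/Block
section
/-!
# The principal block for a self-centralizing element of prime order (helper116)

`exists_block` : the principal `p`-block for `|C(x)| = p`, numerical form;
`card_pairs` : the number of the pairs of involutions with product `x` is `p`;
`class_eq` : the class equation of the involutions, if the exceptional characters vanish at the involutions.
-/

set_option autoImplicit false
set_option linter.unusedSectionVars false

open Cfsg Subgroup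
open scoped ComplexConjugate

namespace Cfsg.Agent.H116.LyFive

open Cfsg.Agent.Characters.Core Cfsg.Agent.H653.Sieve
open Cfsg.Agent.SmallSimple.PrimeLocal Cfsg.Agent.SmallSimple.InvolColumn

universe u

variable {G : Type u} [Group G] [Finite G]

/-- Inversion in the normalizer. -/
theorem exists_inv {p : ℕ} (hp : p.Prime) {x : G} (hx : orderOf x = p)
    (he : Even ((centralizer ((zpowers x : Subgroup G) : Set G)).relIndex
      (normalizer ((zpowers x : Subgroup G) : Set G)))) : ∃ g : G, g * x * g⁻¹ = x⁻¹ := by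
  set Z : Subgroup G := zpowers x with hZ
  have hle : centralizer (Z : Set G) ≤ normalizer (Z : Set G) := centralizer_le_normalizer _
  let C' := (centralizer (Z : Set G)).subgroupOf (normalizer (Z : Set G))
  have hn : C'.Normal := by
    have := Subgroup.normal_subgroupOf_iff hle
    rw [this]
    intro h g hh hg
    rw [mem_centralizer_iff] at hh ⊢
    intro y hy
    have hg' := (mem_normalizer_iff.1 (inv_mem hg) y).1 hy
    rw [inv_inv] at hg'
    have h1 := hh _ hg'
    calc y * (g * h * g⁻¹) = g * (g⁻¹ * y * g * h) * g⁻¹ := by group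
      _ = g * (h * (g⁻¹ * y * g)) * g⁻¹ := by rw [h1]
      _ = g * h * g⁻¹ * y := by group
  have hcard : Nat.card (normalizer (Z : Set G) ⧸ C') =
      (centralizer (Z : Set G)).relIndex (normalizer (Z : Set G)) := rfl
  obtain ⟨q, hq⟩ := exists_prime_orderOf_dvd_card' (G := normalizer (Z : Set G) ⧸ C') 2 (by
    rw [hcard]; exact he.two_dvd)
  obtain ⟨n, rfl⟩ := QuotientGroup.mk_surjective q
  have h2 : (n : G) * n ∈ centralizer (Z : Set G) := by
    have h3 : ((n * n : normalizer (Z : Set G)) : normalizer (Z : Set G) ⧸ C') = 1 := by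
      have h4 := pow_orderOf_eq_one (QuotientGroup.mk n : normalizer (Z : Set G) ⧸ C')
      rw [hq, pow_two] at h4
      exact h4
    have h4 := (QuotientGroup.eq_one_iff _).1 h3
    exact mem_subgroupOf.1 h4
  have h3 : (n : G) ∉ centralizer (Z : Set G) := by
    intro h4
    have h5 : (QuotientGroup.mk n : normalizer (Z : Set G) ⧸ C') = 1 :=
      (QuotientGroup.eq_one_iff _).2 (mem_subgroupOf.2 h4)
    rw [h5, orderOf_one] at hq
    omega
  have hxZ : x ∈ Z := mem_zpowers x
  have h4 : (n : G) * x * (n : G)⁻¹ ∈ Z := (mem_normalizer_iff.1 n.2 x).1 hxZ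
  obtain ⟨k, hk⟩ := mem_zpowers_iff.1 h4
  have h5 : x ^ (k * k) = x := by
    rw [zpow_mul, hk, conj_zpow, hk]
    have h6 : (n : G) * n * x = x * (n * n) := ((mem_centralizer_iff.1 h2) x hxZ).symm
    calc (n : G) * (n * x * (n : G)⁻¹) * (n : G)⁻¹ = (n * n * x) * ((n : G)⁻¹ * (n : G)⁻¹) := by group
      _ = x * (n * n) * ((n : G)⁻¹ * (n : G)⁻¹) := by rw [h6]
      _ = x := by group
  have h6 : (p : ℤ) ∣ k * k - 1 := by
    rw [← hx, orderOf_dvd_iff_zpow_eq_one, zpow_sub_one, h5, mul_inv_cancel]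
  have h7 : k * k - 1 = (k - 1) * (k + 1) := by ring
  rw [h7] at h6
  rcases (Nat.prime_iff_prime_int.1 hp).dvd_or_dvd h6 with h8 | h8
  · exfalso
    apply h3
    have h9 : x ^ k = x := by
      have := (orderOf_dvd_iff_zpow_eq_one (x := x) (i := k - 1)).1 (by rw [hx]; exact h8)
      rw [zpow_sub_one, mul_inv_eq_one] at this
      exact this
    rw [h9] at hk
    rw [mem_centralizer_iff]
    intro y hy
    obtain ⟨j, rfl⟩ := mem_zpowers_iff.1 hy
    have h10 : (n : G) * x = x * n := by
      rw [eq_mul_inv_iff_mul_eq] at hk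
      exact hk.symm
    exact (Commute.zpow_left (show Commute x (n : G) from h10.symm) j).eq
  · refine ⟨n, ?_⟩
    rw [← hk]
    have := (orderOf_dvd_iff_zpow_eq_one (x := x) (i := k + 1)).1 (by rw [hx]; exact h8)
    rw [zpow_add_one, mul_eq_one_iff_eq_inv] at this
    exact this

theorem zpowers_eq_centralizer {p : ℕ} {x : G} (hx : orderOf x = p)
    (hc : Nat.card (centralizer ({x} : Set G)) = p) : zpowers x = centralizer ({x} : Set G) := by
  apply Subgroup.eq_of_le_of_card_ge
  · rw [zpowers_le]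
    exact mem_centralizer_singleton_iff.2 rfl
  · rw [hc, Nat.card_zpowers, hx]

theorem orderOf_of_inv {p : ℕ} (hp : p.Prime) (hp2 : p ≠ 2) {x : G} (hx : orderOf x = p)
    (hc : Nat.card (centralizer ({x} : Set G)) = p) {s : G} (hs : s * x * s⁻¹ = x⁻¹) : orderOf s = 2 := by
  have h1 : s * s ∈ zpowers x := by
    rw [zpowers_eq_centralizer hx hc, mem_centralizer_singleton_iff]
    have h2 : s * s * x * (s * s)⁻¹ = x := by
      calc s * s * x * (s * s)⁻¹ = s * (s * x * s⁻¹) * s⁻¹ := by group
        _ = s * x⁻¹ * s⁻¹ := by rw [hs]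
        _ = x := by rw [← conj_inv, hs, inv_inv]
    exact mul_inv_eq_iff_eq_mul.1 h2
  obtain ⟨k, hk⟩ := mem_zpowers_iff.1 h1
  have h3 : s * (x ^ k) * s⁻¹ = x ^ k := by rw [hk]; group
  have h4 : s * (x ^ k) * s⁻¹ = (x ^ k)⁻¹ := by
    rw [← conj_zpow, hs, inv_zpow]
  have h5 : x ^ (2 * k) = 1 := by
    rw [two_mul, zpow_add]
    nth_rewrite 1 [← h3]
    rw [h4, inv_mul_cancel]
  have h6 : (p : ℤ) ∣ 2 * k := by rw [← hx]; exact orderOf_dvd_iff_zpow_eq_one.2 h5
  have h7 : (p : ℤ) ∣ k := by
    rcases (Nat.prime_iff_prime_int.1 hp).dvd_or_dvd h6 with h8 | h8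
    · have h9 : p ∣ 2 := by exact_mod_cast h8
      exact absurd ((Nat.prime_dvd_prime_iff_eq hp Nat.prime_two).1 h9) hp2
    · exact h8
  have h8 : s * s = 1 := by
    rw [← hk]
    exact (orderOf_dvd_iff_zpow_eq_one (x := x) (i := k)).1 (by rw [hx]; exact h7)
  have : Fact (Nat.Prime 2) := ⟨Nat.prime_two⟩
  refine orderOf_eq_prime (by rw [pow_two, h8]) ?_
  rintro rfl
  have h9 : x = x⁻¹ := by simpa using hs
  have h10 : x ^ 2 = 1 := by
    rw [pow_two]
    nth_rewrite 1 [h9]
    exact inv_mul_cancel x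
  have h11 : p ∣ 2 := by rw [← hx]; exact orderOf_dvd_of_pow_eq_one h10
  exact hp2 ((Nat.prime_dvd_prime_iff_eq hp Nat.prime_two).1 h11)

/-- The number of the pairs of involutions with product `x`. -/
theorem card_pairs {p : ℕ} (hp : p.Prime) (hp2 : p ≠ 2) {x : G} (hx : orderOf x = p)
    (hc : Nat.card (centralizer ({x} : Set G)) = p) {g : G} (hg : g * x * g⁻¹ = x⁻¹) {t : G} (ht : orderOf t = 2)
    (hone : ∀ s : G, orderOf s = 2 → IsConj t s) :
    Nat.card {r : G × G // IsConj t r.1 ∧ IsConj t r.2 ∧ r.1 * r.2 = x} = p := by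
  have hiff : ∀ s : G, IsConj t s ↔ orderOf s = 2 := fun s => ⟨fun h => by
    obtain ⟨c, hc⟩ := isConj_iff.1 h
    have := orderOf_injective (MulAut.conj c).toMonoidHom (MulAut.conj c).injective t
    rw [← hc, ← ht]
    simpa using this, hone s⟩
  have hx2 : x ^ 2 ≠ 1 := by
    intro h
    have h11 : p ∣ 2 := by rw [← hx]; exact orderOf_dvd_of_pow_eq_one h
    exact hp2 ((Nat.prime_dvd_prime_iff_eq hp Nat.prime_two).1 h11)
  have h1 : Nat.card {r : G × G // IsConj t r.1 ∧ IsConj t r.2 ∧ r.1 * r.2 = x} =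
      Nat.card {r : G × G // orderOf r.1 = 2 ∧ orderOf r.2 = 2 ∧ r.1 * r.2 = x} := by
    simp only [hiff]
  rw [h1, S0235.result x hx2]
  have h2 : Nat.card {s : G // orderOf s = 2 ∧ s * x * s⁻¹ = x⁻¹} = Nat.card (centralizer ({x} : Set G)) := by
    refine Nat.card_congr ⟨fun s => ⟨g⁻¹ * s.1, ?_⟩, fun c => ⟨g * c.1, ?_⟩, ?_, ?_⟩
    · rw [mem_centralizer_singleton_iff]
      have h3 := s.2.2
      have h4 : (s : G) * x = x⁻¹ * s := mul_inv_eq_iff_eq_mul.1 h3
      have h5 : g * x = x⁻¹ * g := mul_inv_eq_iff_eq_mul.1 hg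
      have h6 : g⁻¹ * x⁻¹ = x * g⁻¹ := by
        rw [inv_mul_eq_iff_eq_mul, ← mul_assoc, h5, mul_assoc, mul_inv_cancel, mul_one]
      rw [mul_assoc, h4, ← mul_assoc, h6, mul_assoc]
    · have h3 : (g * (c : G)) * x * (g * (c : G))⁻¹ = x⁻¹ := by
        have h4 : (c : G) * x = x * c := mem_centralizer_singleton_iff.1 c.2
        calc (g * (c : G)) * x * (g * (c : G))⁻¹ = g * ((c : G) * x) * (c : G)⁻¹ * g⁻¹ := by group
          _ = g * x * g⁻¹ := by rw [h4]; group
          _ = x⁻¹ := hg
      exact ⟨orderOf_of_inv hp hp2 hx hc h3, h3⟩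
    · intro s
      apply Subtype.ext
      show g * (g⁻¹ * s.1) = s.1
      group
    · intro c
      apply Subtype.ext
      show g⁻¹ * (g * c.1) = c.1
      group
  rw [h2, hc]

theorem degc (χ : IrrCharacter G) : (χ : G → ℂ) 1 = (deg χ : ℂ) := Blocks.Knorr.charDegree_eq χ.2

/-- The principal block at a self-centralizing element `x` of order `p`. -/
structure Block (p e t : ℕ) (x : G) (NE X : Finset (IrrCharacter G)) (ε : IrrCharacter G → ℤ) (d : ℤ) : Prop where
  rel : _root_.Cfsg.Agent.SmallSimple.InvolColumn.Rel x (fun g => ¬ p ∣ orderOf g) NE X ε d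
  cardNE : NE.card = e
  cardX : X.card = t
  eps : ∀ χ ∈ NE, ε χ = 1 ∨ ε χ = -1
  one : ∃ χ₁ ∈ NE, (χ₁ : G → ℂ) = 1 ∧ ε χ₁ = 1
  dvdNE : ∀ χ ∈ NE, (p : ℤ) ∣ (deg χ : ℤ) - ε χ
  dvdX : ∀ Θ ∈ X, (p : ℤ) ∣ (deg Θ : ℤ) - d * e
  dvdO : ∀ χ : IrrCharacter G, χ ∉ NE → χ ∉ X → p ∣ deg χ

/-- The inertial index is determined by the order. -/
def idxOK (N p e : ℕ) : Bool :=
  (List.range p).all fun e' => (e' == e) || ((p - 1) % e' != 0) || (N % (p * e') != 0) || ((N / (p * e')) % p != 1)

theorem exists_block [IsSimpleGroup G] (hG : ¬ IsMulCommutative G) {p : ℕ} [hp : Fact p.Prime] {N : ℕ}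
    (hN : Nat.card G = N) (hp2 : p ≠ 2) (hN0 : N % p = 0) (hN1 : N % p ^ 2 ≠ 0) {x : G} (hx : orderOf x = p)
    (hc : Nat.card (centralizer ({x} : Set G)) = p) {e t : ℕ} (ht : e * t = p - 1) (huniq : idxOK N p e = true) :
    (∃ g : G, Even e → g * x * g⁻¹ = x⁻¹) ∧
    ∃ (NE X : Finset (IrrCharacter G)) (ε : IrrCharacter G → ℤ) (d : ℤ), Block p e t x NE X ε d := by
  classical
  have h1 : p ∣ Nat.card G := by rw [hN]; exact Nat.dvd_of_mod_eq_zero hN0
  have h2 : ¬ p ^ 2 ∣ Nat.card G := by
    rw [hN]; exact fun h => hN1 (Nat.mod_eq_zero_of_dvd h)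
  have hpg : IsPGroup p (zpowers x) := IsPGroup.of_card (n := 1) (by rw [Nat.card_zpowers, hx, pow_one])
  obtain ⟨P, hxP⟩ := hpg.exists_le_sylow
  have hP : Nat.card P = p := card_of_not_sq_dvd h1 h2 P
  have hPx : (P : Subgroup G) = zpowers x := by
    have h3 : Nat.card (zpowers x) = Nat.card (P : Subgroup G) := by rw [Nat.card_zpowers, hx]; exact hP.symm
    exact (Subgroup.eq_of_le_of_card_ge hxP h3.ge).symm
  obtain ⟨e', K, hL⟩ := exists_local hG h1 h2 P
  have hCx : centralizer ((P : Subgroup G) : Set G) = centralizer ({x} : Set G) := by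
    rw [hPx, SmallSimple.SelfCentPrime.centralizer_zpowers]
  have hCP : Nat.card (centralizer ((P : Subgroup G) : Set G)) = p := by rw [hCx, hc]
  have hKk : Nat.card K = 1 := by
    have h3 : p * Nat.card K = p * 1 := by rw [← hL.card_centralizer, mul_one]; exact hCP
    exact Nat.eq_of_mul_eq_mul_left hp.out.pos h3
  have hN' : Nat.card (normalizer ((P : Subgroup G) : Set G)) = p * e' := by
    have := hL.card_normalizer
    rw [hKk, mul_one] at this
    exact this
  have hrel : (centralizer ((P : Subgroup G) : Set G)).relIndex (normalizer ((P : Subgroup G) : Set G)) = e' := by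
    have hle : centralizer ((P : Subgroup G) : Set G) ≤ normalizer ((P : Subgroup G) : Set G) :=
      centralizer_le_normalizer _
    have h3 := Subgroup.index_mul_card ((centralizer ((P : Subgroup G) : Set G)).subgroupOf
      (normalizer ((P : Subgroup G) : Set G)))
    rw [Nat.card_congr (Subgroup.subgroupOfEquivOfLe hle).toEquiv, hCP, hN'] at h3
    apply Nat.eq_of_mul_eq_mul_right hp.out.pos
    rw [Subgroup.relIndex, h3]; ring
  have hee : e' = e := by
    by_contra hne
    have hlt : e' < p := by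
      have := Nat.le_of_dvd (by have := hp.out.two_le; omega) hL.dvd_pred
      have := hp.out.two_le
      omega
    have h3 := List.all_eq_true.1 huniq e' (List.mem_range.2 hlt)
    have hce := hL.card_eq
    rw [hKk, hN, mul_one] at hce
    have hpos : 0 < p * e' := by
      have he1 := hL.one_lt
      exact Nat.mul_pos hp.out.pos (by omega)
    have h4 : N % (p * e') = 0 := by rw [hce]; exact Nat.mul_mod_left _ _
    have h5 : N / (p * e') = Nat.card (Sylow p G) := by rw [hce]; exact Nat.mul_div_cancel _ hpos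
    have h6 : Nat.card (Sylow p G) % p = 1 := by
      have h7 := card_sylow_modEq_one p G
      have h8 : Nat.card (Sylow p G) % p = 1 % p := h7
      rw [h8, Nat.mod_eq_of_lt hp.out.one_lt]
    have h7 : (p - 1) % e' = 0 := Nat.mod_eq_zero_of_dvd hL.dvd_pred
    simp only [Bool.or_eq_true, beq_iff_eq, bne_iff_ne, ne_eq] at h3
    rcases h3 with ((h3 | h3) | h3) | h3
    · exact hne h3
    · exact h3 h7
    · exact h3 h4
    · rw [h5] at h3; exact h3 h6
  subst hee
  have hC : centralizer (P : Set G) = (P : Subgroup G) := by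
    symm
    apply Subgroup.eq_of_le_of_card_ge
    · show (P : Subgroup G) ≤ centralizer ((P : Subgroup G) : Set G)
      rw [hCx, hPx, zpowers_le]
      exact mem_centralizer_singleton_iff.2 rfl
    have h3 : Nat.card (centralizer (P : Set G)) = p := hCP
    have h4 : Nat.card (P : Subgroup G) = p := hP
    rw [h3, h4]
  have hxP' : x ∈ (P : Subgroup G) := by rw [hPx]; exact mem_zpowers x
  have hx1 : x ≠ 1 := by
    rintro rfl
    rw [orderOf_one] at hx
    exact hp.out.one_lt.ne hx
  constructor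
  · by_cases hev : Even e'
    · obtain ⟨g, hg⟩ := exists_inv hp.out hx (by rw [← hPx, hrel]; exact hev)
      exact ⟨g, fun _ => hg⟩
    · exact ⟨1, fun h => absurd h hev⟩
  obtain ⟨NE, X, ε, d, S, hdis, hNE, hX, hε, hd, hone, hv, hvX, -, hrl, hz⟩ :=
    SmallSimple.TheoremBCor.theoremB_selfCent p hp2 P hP hC e' t hrel ht
  refine ⟨NE, X, ε, d, ⟨hdis, fun χ hχ => hv χ hχ x hxP' hx1, fun χ h1 h2 => (hz χ h1 h2).1 x hxP' hx1, hd,
    fun Θ hΘ g hg => hrl Θ hΘ g hg, ?_, hx1⟩, hNE, hX, hε, hone, ?_, ?_, fun χ h1 h2 => (hz χ h1 h2).2⟩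
  · show ¬ p ∣ orderOf (1 : G)
    rw [orderOf_one]
    exact fun h => hp.out.one_lt.ne' (Nat.dvd_one.1 h)
  · intro χ hχ
    obtain ⟨m, hm⟩ := SmallSimple.TheoremBCor.degree_nonexc (P := (P : Subgroup G)) hP (isIrr_isCharacter χ.2)
      (fun y hy hy1 => hv χ hχ y hy hy1)
    refine ⟨(m : ℤ) - ε χ, ?_⟩
    rw [degc] at hm
    have h3 : (((deg χ : ℕ) : ℤ) : ℂ) = ((ε χ + p * ((m : ℤ) - ε χ) : ℤ) : ℂ) := by
      push_cast
      exact hm
    have h4 : ((deg χ : ℕ) : ℤ) = ε χ + p * ((m : ℤ) - ε χ) := by exact_mod_cast h3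
    linear_combination h4
  · intro Θ hΘ
    obtain ⟨hSc, hS1, hSv⟩ := hvX Θ hΘ
    have := Fintype.ofFinite (P : Subgroup G)
    obtain ⟨m, hm⟩ := SmallSimple.TheoremBCor.degree_exc (P := (P : Subgroup G)) hP (isIrr_isCharacter Θ.2) hS1 hSv
    refine ⟨(m : ℤ), ?_⟩
    rw [degc, hSc] at hm
    have h3 : (((deg Θ : ℕ) : ℤ) : ℂ) = ((d * e' + p * m : ℤ) : ℂ) := by
      push_cast
      exact hm
    have h4 : ((deg Θ : ℕ) : ℤ) = d * e' + p * m := by exact_mod_cast h3
    linear_combination h4

/-- **The class equation of the involutions.** -/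
theorem Block.class_eq {p e t : ℕ} (hp : p.Prime) (hp2 : p ≠ 2) {x : G} {NE X : Finset (IrrCharacter G)}
    {ε : IrrCharacter G → ℤ} {d : ℤ} (h : Block p e t x NE X ε d) (hx : orderOf x = p)
    (hc : Nat.card (centralizer ({x} : Set G)) = p) {g : G} (hg : g * x * g⁻¹ = x⁻¹) {τ : G} (hτ : orderOf τ = 2)
    (hone : ∀ s : G, orderOf s = 2 → IsConj τ s) {Θ : IrrCharacter G} (hΘ : Θ ∈ X) (hΘ0 : (Θ : G → ℂ) τ = 0)
    {K C : ℕ} (hK : (centralizer ({τ} : Set G)).index = K) (hC : Nat.card (centralizer ({τ} : Set G)) = C)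
    {b c : IrrCharacter G → ℤ} (hb : ∀ χ : IrrCharacter G, (χ : G → ℂ) τ = b χ)
    (hbc : ∀ χ : IrrCharacter G, (deg χ : ℤ) * c χ = b χ * K) :
    ∑ χ ∈ NE, ε χ * b χ = 0 ∧ ∑ χ ∈ NE, ε χ * (b χ * c χ) = p * C := by
  have hRτ : ¬ p ∣ orderOf τ := by
    rw [hτ]
    exact fun h => hp2 ((Nat.prime_dvd_prime_iff_eq hp Nat.prime_two).1 h)
  constructor
  · have h1 := h.rel.rel Θ hΘ τ hRτ
    rw [hΘ0, mul_zero] at h1
    have h2 : ((∑ χ ∈ NE, ε χ * b χ : ℤ) : ℂ) = 0 := by
      push_cast
      rw [← h1]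
      exact Finset.sum_congr rfl fun χ _ => by rw [hb]
    exact_mod_cast h2
  · obtain ⟨n, hn1, hn2⟩ := h.rel.exists_nat_classMul hΘ hRτ hRτ
    rw [card_pairs hp hp2 hx hc hg hτ hone] at hn2
    rw [hK, hΘ0, hn2] at hn1
    have hG : Nat.card G = C * K := by
      rw [← hC, ← hK]
      exact (Subgroup.card_mul_index _).symm
    have hK0 : (K : ℂ) ≠ 0 := by
      rw [← hK]
      exact_mod_cast Subgroup.index_ne_zero_of_finite
    have h2 : ∀ χ ∈ NE, (ε χ : ℂ) * ((χ : G → ℂ) τ * (χ : G → ℂ) τ / (χ : G → ℂ) 1) * K =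
        ((ε χ * (b χ * c χ) : ℤ) : ℂ) := by
      intro χ _
      have h3 : (deg χ : ℂ) ≠ 0 := by
        rw [← degc]
        exact Cfsg.Agent.Blocks.Basic.irr_one_ne_zero χ.2
      have h4 : (deg χ : ℂ) * (c χ : ℂ) = (b χ : ℂ) * K := by exact_mod_cast hbc χ
      rw [hb, degc]
      push_cast
      field_simp
      linear_combination -(ε χ : ℂ) * b χ * h4
    have h5 : (K : ℂ) * (((∑ χ ∈ NE, ε χ * (b χ * c χ) : ℤ) : ℂ)) = K * ((p * C : ℤ) : ℂ) := by
      have h6 : ((∑ χ ∈ NE, ε χ * (b χ * c χ) : ℤ) : ℂ) =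
          (∑ χ ∈ NE, (ε χ : ℂ) * ((χ : G → ℂ) τ * (χ : G → ℂ) τ / (χ : G → ℂ) 1)) * K := by
        rw [Finset.sum_mul, Int.cast_sum]
        exact Finset.sum_congr rfl fun χ hχ => (h2 χ hχ).symm
      rw [h6]
      rw [hG] at hn1
      push_cast at hn1 ⊢
      linear_combination hn1
    exact_mod_cast mul_left_cancel₀ hK0 h5

end Cfsg.Agent.H116.LyFive
end

-- part: H116/LyFive/Main
section
/-!
# The Lyons group has an irreducible character of 5-defect zero (helper116)

Only the following is used: `|C(x)| = 67, 37, 31` for elements of order `67, 37, 31`, one class of involutions with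
centralizers of order `11!`, and a character of degree `1534500`.

(A) orthogonality of the columns of 67 and 37 gives a character of degree `43110144`, which is the degree of the
exceptional characters of the principal 31-block;
(B) the degree equation of the 31-block has eleven solutions;
(C) the class equation of the involutions has no solution in any of them.
-/

set_option autoImplicit false
set_option linter.unusedSectionVars false

open Cfsg Subgroup
open scoped ComplexConjugate

namespace Cfsg.Agent.H116.LyFive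

open Cfsg.Agent.Characters.Core Cfsg.Agent.H653.Sieve Cfsg.Agent.H653.Sys
open Cfsg.Agent.SmallSimple.InvolColumn

universe u

/-- the order of the Lyons group -/
def NN : ℕ := 51765179004000000

def facs : List (ℕ × ℕ) := [(2, 8), (3, 7), (5, 6), (7, 1), (11, 1), (31, 1), (37, 1), (67, 1)]

def wl67 : List (ℕ × ℤ) := [(0, 0), (1, 3), (22, -1), (45, 1), (66, -3)]
def wl37 : List (ℕ × ℤ) := [(0, 0), (1, 2), (18, -1), (19, 1), (36, -2)]
def wl31 : List (ℕ × ℤ) := [(0, 0), (1, 5), (6, -1), (25, 1), (30, -5)]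

theorem num67 : numOK NN 67 1 22 3 wl67 3 true = true := by decide +kernel
theorem num37 : numOK NN 37 1 18 2 wl37 2 true = true := by decide +kernel
theorem num31 : numOK NN 31 1 6 5 wl31 5 true = true := by decide +kernel
theorem idx31 : idxOK NN 31 6 = true := by decide +kernel

def Fs : List Fam := [primeFam 67 wl67 201 3 true 3, primeFam 37 wl37 74 2 true 2, primeFam 31 wl31 155 5 true 5]

def cs : List Cf := [⟨0, 0, 0, [1, 0]⟩, ⟨0, 0, 3, [0]⟩, ⟨0, 0, 0, []⟩]

def ex : List Ex := [⟨fun d => Nat.beq d 1534500, -6, -6⟩]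

def Q (d : ℕ) : Bool := Nat.beq (d % 15625) 0 || Nat.beq d 43110144

theorem cert : _root_.Cfsg.Agent.H653.Sys.certOK NN 0 cs ex Fs = true := by decide +kernel

/-- evaluate `d`, then go on -/
noncomputable def fcB (d : ℕ) (k : ℕ → Bool) : Bool := Nat.rec (k 0) (fun n _ => k (Nat.succ n)) d

theorem fcB_eq (d : ℕ) (k : ℕ → Bool) : fcB d k = k d := by cases d <;> rfl

/-- `allPow` -/
noncomputable def fPow (N : ℕ) (f : ℕ → Bool) (p a : ℕ) : ℕ → Bool :=
  Nat.rec f (fun _ r d => Bool.rec (Bool.rec false (fcB (Nat.mul d p) r) (f d)) true (Nat.ble N (Nat.mul d d))) a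

/-- `allDiv` -/
noncomputable def fDiv (N : ℕ) (f : ℕ → Bool) (L : List (ℕ × ℕ)) : ℕ → Bool := List.rec f (fun x _ r => fPow N r x.1 x.2) L

theorem allPow_of {N p : ℕ} {f g : ℕ → Bool} (h : ∀ d, f d = true → g d = true) (a : ℕ) :
    ∀ d, fPow N f p a d = true → H653.Sieve.allPow N g p a d = true := by
  induction a with
  | zero => exact h
  | succ a ih =>
    intro d h1
    have h2 : (Bool.rec (Bool.rec false (fcB (d * p) (fPow N f p a)) (f d)) true (Nat.ble N (d * d)) : Bool) = true := h1
    show (bif Nat.ble N (d * d) then true else (g d && H653.Sieve.allPow N g p a (d * p))) = true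
    cases h3 : Nat.ble N (d * d)
    · rw [h3, fcB_eq] at h2
      cases h4 : f d
      · rw [h4] at h2; exact Bool.noConfusion h2
      · rw [h4] at h2
        rw [cond_false, h d h4, ih _ h2]
        rfl
    · rfl

theorem allDiv_of {N : ℕ} {f g : ℕ → Bool} (h : ∀ d, f d = true → g d = true) (L : List (ℕ × ℕ)) :
    ∀ d, fDiv N f L d = true → H653.Sieve.allDiv N g L d = true := by
  induction L with
  | nil => exact h
  | cons x L ih => exact allPow_of ih x.2

/-- the residues modulo `67, 37, 31` are tested first -/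
noncomputable def preR (f : ℕ → Bool) (d : ℕ) : Bool :=
  Bool.rec true (Bool.rec true (Bool.rec true (f d) (bt 1107296323 (Nat.mod d 31))) (bt 68720263171 (Nat.mod d 37)))
    (bt 73787011479214489603 (Nat.mod d 67))

theorem allDiv_pre {f : ℕ → Bool} (h1 : ∀ d, bt 73787011479214489603 (d % 67) = false → f d = true)
    (h2 : ∀ d, bt 68720263171 (d % 37) = false → f d = true) (h3 : ∀ d, bt 1107296323 (d % 31) = false → f d = true)
    (h : fDiv NN (preR f) facs 1 = true) : H653.Sieve.allDiv NN f facs 1 = true := by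
  refine allDiv_of (fun d hd => ?_) _ _ h
  have h4 : (Bool.rec true (Bool.rec true (Bool.rec true (f d) (bt 1107296323 (d % 31))) (bt 68720263171 (d % 37)))
    (bt 73787011479214489603 (d % 67)) : Bool) = true := hd
  cases e1 : bt 73787011479214489603 (d % 67)
  · exact h1 d e1
  cases e2 : bt 68720263171 (d % 37)
  · exact h2 d e2
  cases e3 : bt 1107296323 (d % 31)
  · exact h3 d e3
  rw [e1, e2, e3] at h4
  exact h4

theorem okD_pre {Q : ℕ → Bool} (h : fDiv NN (preR (H653.Sys.okD NN 0 cs ex Fs Q)) facs 1 = true) :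
    H653.Sieve.allDiv NN (H653.Sys.okD NN 0 cs ex Fs Q) facs 1 = true := by
  have key : ∀ d, (∀ k, allV Fs d k = true) → H653.Sys.okD NN 0 cs ex Fs Q d = true := by
    intro d hd
    show (bif _ then true else bif _ then true else allV _ d _) = true
    rw [hd, Bool.cond_self, Bool.cond_self]
  have e : ∀ d k, allV Fs d k = (pick (d % 67) wl67).all fun u => (pick (d % 37) wl37).all fun v =>
    (pick (d % 31) wl31).all fun w => k (u ++ (v ++ (w ++ []))) := fun _ _ => rfl
  have p1 : ∀ r < 67, bt 73787011479214489603 r = false → pick r wl67 = [] := by decide +kernel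
  have p2 : ∀ r < 37, bt 68720263171 r = false → pick r wl37 = [] := by decide +kernel
  have p3 : ∀ r < 31, bt 1107296323 r = false → pick r wl31 = [] := by decide +kernel
  refine allDiv_pre (fun d hd => key d fun k => ?_) (fun d hd => key d fun k => ?_) (fun d hd => key d fun k => ?_) h
  · rw [e, p1 _ (Nat.mod_lt _ (by decide)) hd]; rfl
  · rw [e, p2 _ (Nat.mod_lt _ (by decide)) hd]; exact List.all_eq_true.2 fun _ _ => rfl
  · rw [e, p3 _ (Nat.mod_lt _ (by decide)) hd]; exact List.all_eq_true.2 fun _ _ => List.all_eq_true.2 fun _ _ => rfl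

theorem cert_all : H653.Sieve.allDiv NN (H653.Sys.okD NN 0 cs ex Fs Q) facs 1 = true := okD_pre (by decide +kernel)

/-- is the number a candidate? -/
def memZ (z : ℤ) : Bool := sp.any (ieq z) || ge.any (ieq z)

theorem memZ_spec {z : ℤ} (h : memZ z = true) : z ∈ sp ∨ z ∈ ge := by
  rw [memZ, Bool.or_eq_true, List.any_eq_true, List.any_eq_true] at h
  rcases h with ⟨y, hy, h⟩ | ⟨y, hy, h⟩
  · exact Or.inl (ieq_iff.1 h ▸ hy)
  · exact Or.inr (ieq_iff.1 h ▸ hy)

def res67 (r : ℕ) : Bool := Nat.beq r 0 || Nat.beq r 1 || Nat.beq r 22 || Nat.beq r 45 || Nat.beq r 66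
def res37 (r : ℕ) : Bool := Nat.beq r 0 || Nat.beq r 1 || Nat.beq r 18 || Nat.beq r 19 || Nat.beq r 36

/-- the check of the candidates for a degree -/
def chk (d : ℕ) : Bool :=
  Nat.ble NN (d * d) || Nat.beq (d % 15625) 0 || !(res67 (d % 67)) || !(res37 (d % 37)) ||
    ((!(Nat.beq (d % 31) 1) || Nat.beq d 1 || memZ (Int.ofNat d)) &&
      (!(Nat.beq (d % 31) 30) || memZ (Int.negSucc (d - 1))))

theorem res_pre : (∀ d, bt 73787011479214489603 (d % 67) = false → res67 (d % 67) = false) ∧
    (∀ d, bt 68720263171 (d % 37) = false → res37 (d % 37) = false) ∧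
    ∀ d, bt 1107296323 (d % 31) = false → Nat.beq (d % 31) 1 = false ∧ Nat.beq (d % 31) 30 = false := by
  have p1 : ∀ r < 67, bt 73787011479214489603 r = false → res67 r = false := by decide +kernel
  have p2 : ∀ r < 37, bt 68720263171 r = false → res37 r = false := by decide +kernel
  have p3 : ∀ r < 31, bt 1107296323 r = false → Nat.beq r 1 = false ∧ Nat.beq r 30 = false := by decide +kernel
  exact ⟨fun d => p1 _ (Nat.mod_lt _ (by decide)), fun d => p2 _ (Nat.mod_lt _ (by decide)),
    fun d => p3 _ (Nat.mod_lt _ (by decide))⟩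

theorem chk_all : H653.Sieve.allDiv NN chk facs 1 = true := by
  refine allDiv_pre (fun d hd => ?_) (fun d hd => ?_) (fun d hd => ?_) (by decide +kernel)
  · rw [chk, res_pre.1 d hd, Bool.not_false, Bool.or_true, Bool.true_or, Bool.true_or]
  · rw [chk, res_pre.2.1 d hd, Bool.not_false, Bool.or_true, Bool.true_or]
  · rw [chk, (res_pre.2.2 d hd).1, (res_pre.2.2 d hd).2, Bool.not_false, Bool.true_or, Bool.true_or, Bool.true_or,
      Bool.and_true, Bool.or_true]

theorem facs_prime : (facs.all fun pa => Nat.Prime pa.1) = true := by norm_num [facs]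

theorem facs_prod : H653.Sieve.facProd facs = NN := by decide +kernel

theorem res67_of {r : ℕ} {w : ℤ} (h : (r, w) ∈ wl67) : res67 r = true := by
  simp only [wl67, List.mem_cons, Prod.mk.injEq, List.not_mem_nil, or_false] at h
  rcases h with ⟨rfl, -⟩ | ⟨rfl, -⟩ | ⟨rfl, -⟩ | ⟨rfl, -⟩ | ⟨rfl, -⟩ <;> rfl

theorem res37_of {r : ℕ} {w : ℤ} (h : (r, w) ∈ wl37) : res37 r = true := by
  simp only [wl37, List.mem_cons, Prod.mk.injEq, List.not_mem_nil, or_false] at h
  rcases h with ⟨rfl, -⟩ | ⟨rfl, -⟩ | ⟨rfl, -⟩ | ⟨rfl, -⟩ | ⟨rfl, -⟩ <;> rfl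

variable {G : Type u} [Group G] [Finite G]

/-- The local data. -/
structure Dat (G : Type u) [Group G] : Prop where
  card : Nat.card G = 51765179004000000
  c67 : ∃ x : G, orderOf x = 67 ∧ Nat.card (centralizer ({x} : Set G)) = 67
  c37 : ∃ x : G, orderOf x = 37 ∧ Nat.card (centralizer ({x} : Set G)) = 37
  c31 : ∃ x : G, orderOf x = 31 ∧ Nat.card (centralizer ({x} : Set G)) = 31
  deg : ∃ χ : IrrCharacter G, charDegree (χ : G → ℂ) = 1534500
  inv : ∃ t : G, orderOf t = 2 ∧ Nat.card (centralizer ({t} : Set G)) = 39916800 ∧ ∀ s : G, orderOf s = 2 → IsConj t s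

instance fact67p : Fact (Nat.Prime 67) := ⟨by norm_num⟩
instance fact37p : Fact (Nat.Prime 37) := ⟨by norm_num⟩
instance fact31p : Fact (Nat.Prime 31) := ⟨by norm_num⟩

theorem isConj_order {g h : G} (hc : IsConj g h) : orderOf g = orderOf h := by
  obtain ⟨c, hc⟩ := isConj_iff.1 hc
  have := orderOf_injective (MulAut.conj c).toMonoidHom (MulAut.conj c).injective g
  rw [← hc]
  simpa using this.symm

/-- (A) There is a character of degree `43110144`. -/
theorem exists_exc [IsSimpleGroup G] (hG : ¬ IsMulCommutative G) (D : Dat G)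
    (hno : ∀ χ : IrrCharacter G, ¬ 15625 ∣ charDegree (χ : G → ℂ)) :
    ∃ χ : IrrCharacter G, deg χ = 43110144 := by
  classical
  have := finite_irr (G := G)
  have := Fintype.ofFinite (IrrCharacter G)
  obtain ⟨x67, h67, c67⟩ := D.c67
  obtain ⟨x37, h37, c37⟩ := D.c37
  obtain ⟨x31, h31, c31⟩ := D.c31
  have hN : Nat.card G = NN := D.card
  obtain ⟨W67, hW67⟩ := primeFam_ok hG hN h67 (k := 1) (by rw [c67]) 22 3 wl67 3 true num67 201 3 (by norm_num) (by norm_num)
  obtain ⟨W37, hW37⟩ := primeFam_ok hG hN h37 (k := 1) (by rw [c37]) 18 2 wl37 2 true num37 74 2 (by norm_num) (by norm_num)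
  obtain ⟨W31, hW31⟩ := primeFam_ok hG hN h31 (k := 1) (by rw [c31]) 6 5 wl31 5 true num31 155 5 (by norm_num) (by norm_num)
  have hnp : ¬ (Nat.card G).Prime := by
    rw [D.card]
    exact fun h => absurd (h.eq_one_or_self_of_dvd 2 (by norm_num)) (by norm_num)
  obtain ⟨χ, -, hχ⟩ := exists_of_cert (lab := fun g : G => orderOf g) (fun g h hc => isConj_order hc) orderOf_one NN hN facs
    facs_prime facs_prod (fun χ h => one_of_deg hnp χ h) (Fs := Fs) (.cons hW67 (.cons hW37 (.cons hW31 .nil))) ex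
    (by
      intro e he
      simp only [ex, List.mem_singleton] at he
      subst he
      obtain ⟨χ, hχ⟩ := D.deg
      exact Ex.of_exists ⟨χ, by
        have : deg χ = 1534500 := hχ
        rw [this]
        rfl⟩ (by norm_num)) 0 cs Q cert cert_all
  refine ⟨χ, ?_⟩
  rw [Q, Bool.or_eq_true] at hχ
  rcases hχ with h | h
  · exact absurd (Nat.dvd_of_mod_eq_zero (Nat.eq_of_beq_eq_true h)) (hno χ)
  · exact Nat.eq_of_beq_eq_true h

/-- The signed degrees of the nonexceptional characters are candidates. -/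
theorem candidate [IsSimpleGroup G] (hG : ¬ IsMulCommutative G) (D : Dat G)
    (hno : ∀ χ : IrrCharacter G, ¬ 15625 ∣ charDegree (χ : G → ℂ)) (χ : IrrCharacter G) (h1 : (χ : G → ℂ) ≠ 1)
    {ε : ℤ} (hε : ε = 1 ∨ ε = -1) (hd : (31 : ℤ) ∣ (deg χ : ℤ) - ε) : ε * deg χ ∈ sp ∨ ε * deg χ ∈ ge := by
  classical
  have := finite_irr (G := G)
  have := Fintype.ofFinite (IrrCharacter G)
  obtain ⟨x67, h67, c67⟩ := D.c67
  obtain ⟨x37, h37, c37⟩ := D.c37
  have hN : Nat.card G = NN := D.card
  obtain ⟨-, W67, -, -, -, hok67⟩ := H653.Sieve.exists_col hG hN h67 (k := 1) (by rw [c67]) 22 3 wl67 3 true num67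
  obtain ⟨-, W37, -, -, -, hok37⟩ := H653.Sieve.exists_col hG hN h37 (k := 1) (by rw [c37]) 18 2 wl37 2 true num37
  have r67 : res67 (deg χ % 67) = true := res67_of (hok67.mem χ)
  have r37 : res37 (deg χ % 37) = true := res37_of (hok37.mem χ)
  have hnp : ¬ (Nat.card G).Prime := by
    rw [D.card]
    exact fun h => absurd (h.eq_one_or_self_of_dvd 2 (by norm_num)) (by norm_num)
  have hne1 : deg χ ≠ 1 := fun h => h1 (one_of_deg hnp χ h)
  have hpos : 0 < deg χ := by
    have := Cfsg.Agent.Blocks.Basic.irr_one_ne_zero χ.2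
    rw [degc] at this
    rcases Nat.eq_zero_or_pos (deg χ) with h | h
    · rw [h] at this; simp at this
    · exact h
  have hdvd : deg χ ∣ facProd facs := by
    rw [facs_prod, ← hN]
    exact Blocks.Knorr.charDegree_dvd χ.2
  have hlt : deg χ * deg χ < NN := by
    have hsq : ∑ χ : IrrCharacter G, deg χ * deg χ = NN := by
      have h3 := SmallSimple.DegreeData.sum_sq (G := G)
      rw [← hN, ← h3]
      exact Finset.sum_congr rfl fun χ _ => by unfold deg; ring
    have hχ₁ : ∃ χ₁ : IrrCharacter G, (χ₁ : G → ℂ) = 1 := ⟨⟨1, isIrr_one⟩, rfl⟩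
    obtain ⟨χ₁, hχ₁⟩ := hχ₁
    have hne : χ ≠ χ₁ := fun h => h1 (by rw [h, hχ₁])
    have hd1 : deg χ₁ = 1 := by
      unfold deg charDegree
      rw [hχ₁]
      simp
    have h4 : ∑ χ' ∈ ({χ, χ₁} : Finset (IrrCharacter G)), deg χ' * deg χ' ≤
        ∑ χ' : IrrCharacter G, deg χ' * deg χ' :=
      Finset.sum_le_sum_of_subset (Finset.subset_univ _)
    rw [Finset.sum_pair hne, hsq, hd1] at h4
    omega
  have hpr : ∀ pa ∈ facs, pa.1.Prime := by
    intro pa hpa
    have := List.all_eq_true.1 facs_prime pa hpa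
    simpa using this
  have h3 := allDiv_spec hpr chk_all (deg χ) hdvd (by rwa [one_mul])
  rw [one_mul, chk, r67, r37] at h3
  have h0 : Nat.beq (deg χ % 15625) 0 = false := by
    rw [Bool.eq_false_iff]
    exact fun h => hno χ (Nat.dvd_of_mod_eq_zero (Nat.eq_of_beq_eq_true h))
  have hb1 : Nat.beq (deg χ) 1 = false := by
    rw [Bool.eq_false_iff]
    exact fun h => hne1 (Nat.eq_of_beq_eq_true h)
  have hble : Nat.ble NN (deg χ * deg χ) = false := by
    rw [Bool.eq_false_iff]
    intro h5
    exact absurd (Nat.le_of_ble_eq_true h5) (by omega)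
  rw [hble, h0, hb1] at h3
  simp only [Bool.not_true, Bool.false_or, Bool.or_false, Bool.and_eq_true, Bool.or_eq_true, Bool.not_eq_true'] at h3
  obtain ⟨h3, h4⟩ := h3
  rcases hε with rfl | rfl
  · rw [one_mul]
    have h5 : deg χ % 31 = 1 := by omega
    rw [h5] at h3
    rcases h3 with h3 | h3
    · exact Bool.noConfusion h3
    · exact memZ_spec h3
  · have h5 : deg χ % 31 = 30 := by omega
    rw [h5] at h4
    rcases h4 with h4 | h4
    · exact Bool.noConfusion h4
    · have h6 := memZ_spec h4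
      have h7 : Int.negSucc (deg χ - 1) = -1 * (deg χ : ℤ) := by
        rw [Int.negSucc_eq]
        (clear * - h5; omega)
      rw [h7] at h6
      exact h6

/-- **The Lyons group has an irreducible character of 5-defect zero.** -/
theorem exists_dz [IsSimpleGroup G] (hG : ¬ IsMulCommutative G) (D : Dat G) :
    ∃ χ : IrrCharacter G, 15625 ∣ charDegree (χ : G → ℂ) := by
  classical
  by_contra hno
  push Not at hno
  have hfin := finite_irr (G := G)
  have := Fintype.ofFinite (IrrCharacter G)
  obtain ⟨x, hx, hc⟩ := D.c31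
  obtain ⟨τ, hτ, hτc, hone⟩ := D.inv
  have hN : Nat.card G = NN := D.card
  obtain ⟨⟨g, hg⟩, NE, X, ε, d, B⟩ := exists_block hG hN (by norm_num) (by decide +kernel) (by decide +kernel) hx hc
    (e := 6) (t := 5) (by norm_num) idx31
  replace hg := hg (by decide)
  -- (A)
  obtain ⟨Θ, hΘd⟩ := exists_exc hG D hno
  have hΘX : Θ ∈ X := by
    by_contra hX
    by_cases hNE : Θ ∈ NE
    · have h1 := B.dvdNE Θ hNE
      rw [hΘd] at h1
      rcases B.eps Θ hNE with h2 | h2 <;> rw [h2] at h1 <;> revert h1 <;> norm_num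
    · have h1 := B.dvdO Θ hNE hX
      rw [hΘd] at h1
      revert h1
      norm_num
  have hd : d = -1 := by
    rcases B.rel.hd with h | h
    · have h1 := B.dvdX Θ hΘX
      rw [hΘd, h] at h1
      revert h1
      norm_num
    · exact h
  -- the values at the involution
  have hbex : ∀ χ : IrrCharacter G, ∃ z : ℤ, (χ : G → ℂ) τ = z := by
    intro χ
    obtain ⟨n, z, -, hz, -⟩ := exists_int_of_char (isIrr_isCharacter χ.2) (t := τ) (by rw [← hτ, pow_orderOf_eq_one])
    exact ⟨z, hz⟩
  choose b hb using hbex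
  have hK : (centralizer ({τ} : Set G)).index = KK := by
    have h1 := (centralizer ({τ} : Set G)).card_mul_index
    rw [hτc, D.card] at h1
    have h2 : 39916800 * KK = 51765179004000000 := by decide +kernel
    omega
  have hcex : ∀ χ : IrrCharacter G, ∃ c : ℤ, (deg χ : ℤ) * c = b χ * KK := by
    intro χ
    obtain ⟨c, hc⟩ := dvd_index_mul χ.2 (hb χ)
    rw [hK] at hc
    exact ⟨c, by rw [mul_comm (b χ)]; exact hc.symm⟩
  choose c hc' using hcex
  have hle : ∀ χ : IrrCharacter G, b χ * b χ ≤ CT := by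
    intro χ
    have h1 := sum_sq_le ({χ} : Finset (IrrCharacter G)) τ b fun χ _ => hb χ
    rw [Finset.sum_singleton, hτc, pow_two] at h1
    exact h1
  have hpos : ∀ χ : IrrCharacter G, deg χ ≠ 0 := by
    intro χ h
    have := Cfsg.Agent.Blocks.Basic.irr_one_ne_zero χ.2
    rw [degc, h] at this
    simp at this
  have hdz : ∀ χ : IrrCharacter G, 256 ∣ deg χ → b χ = 0 := by
    intro χ h
    have h1 := H692.RealOver.defect_zero_vanish χ.2 2 Nat.prime_two (by
      have h2 : (Nat.card G).factorization 2 = 8 := by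
        rw [D.card, show (51765179004000000 : ℕ) = 2 ^ 8 * 202207730484375 by norm_num,
          Nat.factorization_mul (by norm_num) (by norm_num), Nat.Prime.factorization_pow Nat.prime_two]
        rw [Finsupp.add_apply, Finsupp.single_eq_same, Nat.factorization_eq_zero_of_not_dvd (by norm_num)]
      rw [h2]
      exact h) (x := τ) (by rw [hτ])
    rw [hb χ] at h1
    exact_mod_cast h1
  have hΘ0 : (Θ : G → ℂ) τ = 0 := by
    rw [hb Θ, hdz Θ (by rw [hΘd]; norm_num)]
    simp
  obtain ⟨hL, hQ⟩ := B.class_eq (by norm_num) (by norm_num) hx hc hg hτ hone hΘX hΘ0 hK hτc hb hc'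
  -- without the principal character
  obtain ⟨χ₁, h1NE, hχ₁, hε₁⟩ := B.one
  have hS5 : (NE.erase χ₁).card = 5 := by rw [Finset.card_erase_of_mem h1NE, B.cardNE]
  have hd1 : deg χ₁ = 1 := by
    unfold deg charDegree
    rw [hχ₁]
    simp
  have hb1 : b χ₁ = 1 := by
    have := hb χ₁
    rw [hχ₁, Pi.one_apply] at this
    exact_mod_cast this.symm
  have hc1 : c χ₁ = KK := by
    have := hc' χ₁
    rw [hd1, hb1] at this
    simpa using this
  rw [← Finset.add_sum_erase NE _ h1NE, hε₁, hb1] at hL hQ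
  rw [hc1] at hQ
  -- the degrees
  have hdeg : ∑ χ ∈ NE.erase χ₁, ε χ * (deg χ : ℤ) = -43110145 := by
    have h1 := B.rel.rel Θ hΘX 1 B.rel.one
    have h2 : ((∑ χ ∈ NE, ε χ * (deg χ : ℤ) : ℤ) : ℂ) = ((-1 * 43110144 : ℤ) : ℂ) := by
      push_cast
      rw [degc, hΘd, hd] at h1
      push_cast at h1
      rw [show (-43110144 : ℂ) = -1 * 43110144 by norm_num, ← h1]
      exact Finset.sum_congr rfl fun χ _ => by rw [degc]
    have h3 : ∑ χ ∈ NE, ε χ * (deg χ : ℤ) = -1 * 43110144 := by exact_mod_cast h2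
    rw [← Finset.add_sum_erase NE _ h1NE, hε₁, hd1] at h3
    push_cast at h3
    linarith only [h3]
  set Df : IrrCharacter G → ℤ := fun χ => ε χ * (deg χ : ℤ) with hDf
  obtain ⟨s, hs, hsm⟩ := enum_sound ((NE.erase χ₁).val.map Df) (by rw [Multiset.card_map]; exact hS5)
    (by
      intro z hz
      obtain ⟨χ, hχ, rfl⟩ := Multiset.mem_map.1 hz
      have hχ' : χ ∈ NE.erase χ₁ := hχ
      obtain ⟨hne, hχN⟩ := Finset.mem_erase.1 hχ'
      exact candidate hG D hno χ (fun h => hne (Subtype.ext (h.trans hχ₁.symm))) (B.eps χ hχN) (B.dvdNE χ hχN))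
    hdeg
  have hsg : ∀ χ ∈ NE.erase χ₁, sg (Df χ) = ε χ := by
    intro χ hχ
    have hp : 0 < deg χ := Nat.pos_of_ne_zero (hpos χ)
    obtain ⟨m, hm⟩ : ∃ m, deg χ = m + 1 := ⟨deg χ - 1, by omega⟩
    rcases B.eps χ (Finset.mem_of_mem_erase hχ) with h | h
    · show sg (ε χ * (deg χ : ℤ)) = ε χ
      rw [h, one_mul]
      rfl
    · show sg (ε χ * (deg χ : ℤ)) = ε χ
      rw [h, hm]
      rfl
  have hnat : ∀ χ ∈ NE.erase χ₁, (Df χ).natAbs = deg χ := by
    intro χ hχ
    show (ε χ * (deg χ : ℤ)).natAbs = deg χ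
    rw [Int.natAbs_mul, Int.natAbs_natCast]
    rcases B.eps χ (Finset.mem_of_mem_erase hχ) with h | h <;> rw [h] <;> simp
  have hH : Hyp Df b c (NE.erase χ₁) := by
    refine ⟨fun χ hχ h0 => ?_, fun χ hχ => ?_, fun χ _ => hle χ, fun χ hχ h => ?_⟩
    · have h1 := hnat χ hχ
      rw [h0] at h1
      exact hpos χ h1.symm
    · rw [hnat χ hχ]; exact hc' χ
    · rw [hnat χ hχ] at h; exact hdz χ h
  have hchk := List.all_eq_true.1 search_check s hs
  refine srch_sound (l := srt s) (S := NE.erase χ₁) ?_ hH hchk ?_ ?_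
  · rw [← hsm]
    exact (Multiset.coe_eq_coe.2 (List.perm_insertionSort _ _)).symm
  · rw [Finset.sum_congr rfl fun χ hχ => by rw [hsg χ hχ]]
    linarith only [hL]
  · rw [Finset.sum_congr rfl fun χ hχ => by rw [hsg χ hχ]]
    have h1 : ((31 : ℕ) : ℤ) * ((39916800 : ℕ) : ℤ) = 31 * CT := by norm_num [CT]
    rw [h1] at hQ
    linarith only [hQ]

end Cfsg.Agent.H116.LyFive
end

private theorem dce_7d089196e7c7 : _root_.True := by
  try have : _root_.True := by simp only [_root_.Cfsg.Agent.H116.LyFive.ieq._sparseCasesOn_1.else_eq]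
  try have : _root_.True := by simp only [_root_.Cfsg.Agent.H116.LyFive.ileq._sparseCasesOn_1.else_eq]
  try have : _root_.True := by simp only [_root_.Cfsg.Agent.H116.LyFive.wl37.eq_1]
  try have : _root_.True := by simp only [_root_.Cfsg.Agent.H116.LyFive.ieq.eq_2]
  try have : _root_.True := by simp only [_root_.Cfsg.Agent.H116.LyFive.facs.eq_1]
  try have : _root_.True := by simp only [_root_.Cfsg.Agent.H116.LyFive.mkVars.eq_def]
  try have : _root_.True := by simp only [_root_.Cfsg.Agent.H116.LyFive.allK.eq_2]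
  try have : _root_.True := by simp only [_root_.Cfsg.Agent.H116.LyFive.go2.eq_1]
  try have : _root_.True := by simp only [_root_.Cfsg.Agent.H116.LyFive.ieq.eq_3]
  try have : _root_.True := by simp only [_root_.Cfsg.Agent.H116.LyFive.allK.eq_def]
  try have : _root_.True := by simp only [_root_.Cfsg.Agent.H116.LyFive.ieq._sparseCasesOn_2.else_eq]
  try have : _root_.True := by simp only [_root_.Cfsg.Agent.H116.LyFive.allK.eq_1]
  try have : _root_.True := by simp only [_root_.Cfsg.Agent.H116.LyFive.go2.eq_2]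
  try have : _root_.True := by simp only [_root_.Cfsg.Agent.H116.LyFive.go1.eq_1]
  try have : _root_.True := by simp only [_root_.Cfsg.Agent.H116.LyFive.ileq.eq_1]
  try have : _root_.True := by simp only [_root_.Cfsg.Agent.H116.LyFive.headG.eq_2]
  try have : _root_.True := by simp only [_root_.Cfsg.Agent.H116.LyFive.memZ.eq_1]
  try have : _root_.True := by simp only [_root_.Cfsg.Agent.H116.LyFive.ileq._sparseCasesOn_2.else_eq]
  try have : _root_.True := by simp only [_root_.Cfsg.Agent.H116.LyFive.chk.eq_1]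
  try have : _root_.True := by simp only [_root_.Cfsg.Agent.H116.LyFive.CT.eq_1]
  try have : _root_.True := by simp only [_root_.Cfsg.Agent.H116.LyFive.headG.eq_1]
  try have : _root_.True := by simp only [_root_.Cfsg.Agent.H116.LyFive.srch.eq_1]
  try have : _root_.True := by simp only [_root_.Cfsg.Agent.H116.LyFive.allSuf.eq_1]
  try have : _root_.True := by simp only [_root_.Cfsg.Agent.H116.LyFive.allSuf.eq_def]
  try have : _root_.True := by simp only [_root_.Cfsg.Agent.H116.LyFive.srch.eq_def]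
  try have : _root_.True := by simp only [_root_.Cfsg.Agent.H116.LyFive.Q.eq_1]
  try have : _root_.True := by simp only [_root_.Cfsg.Agent.H116.LyFive.srch.eq_2]
  try have : _root_.True := by simp only [_root_.Cfsg.Agent.H116.LyFive.allSuf.eq_2]
  try have : _root_.True := by simp only [_root_.Cfsg.Agent.H116.LyFive.sols.eq_1]
  try have : _root_.True := by simp only [_root_.Cfsg.Agent.H116.LyFive.srch.eq_3]
  try have : _root_.True := by simp only [_root_.Cfsg.Agent.H116.LyFive.ex.eq_1]
  try have : _root_.True := by simp only [_root_.Cfsg.Agent.H116.LyFive.ieq.eq_1]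
  try have : _root_.True := by simp only [_root_.Cfsg.Agent.H116.LyFive.go1.eq_def]
  try have : _root_.True := by simp only [_root_.Cfsg.Agent.H116.LyFive.ileq.eq_def]
  try have : _root_.True := by simp only [_root_.Cfsg.Agent.H116.LyFive.go1.eq_2]
  try have : _root_.True := by simp only [_root_.Cfsg.Agent.H116.LyFive.ileq.eq_2]
  try have : _root_.True := by simp only [_root_.Cfsg.Agent.H116.LyFive.go2.eq_def]
  try have : _root_.True := by simp only [_root_.Cfsg.Agent.H116.LyFive.wl67.eq_1]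
  try have : _root_.True := by simp only [_root_.Cfsg.Agent.H116.LyFive.ileq.eq_3]
  try have : _root_.True := by simp only [_root_.Cfsg.Agent.H116.LyFive.mkVars.eq_1]
  try have : _root_.True := by simp only [_root_.Cfsg.Agent.H116.LyFive.mkVars.eq_2]
  exact _root_.True.intro
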